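import Groth.Agent.HypCurve.TwistSeq
import Groth.Agent.CurveCohLib.Euler
import Groth.Agent.CurveCohLib.Rank
import Groth.Agent.ComodLib.GradedAug
import Groth.Agent.PnCoh.PushNat
import Groth.Agent.CurveBC.Geometry
import Groth.Agent.S0843
import Groth.Agent.S0844
import Groth.Agent.S0845

/-!
# Cohomology of a plane curve
-/

set_option autoImplicit false
set_option linter.style.haveILetI false
set_option linter.unusedSectionVars false
set_option backward.isDefEq.respectTransparency false
set_option backward.isDefEq.respectTransparency.types false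

universe u

open CategoryTheory CategoryTheory.Limits AlgebraicGeometry TopologicalSpace Opposite

noncomputable section

namespace Groth.Agent.HypCurve

open Groth.Agent Groth.Agent.CurveCohLib
open Groth.Agent.PnCoh.Finite (mapLin deltaLin exists_of_deltaLin_eq_zero)

section Seq

variable {X : Scheme.{u}} (A : Type u) [CommRing A] [X.Over (Spec (CommRingCat.of A))]
  {S : ShortComplex X.Modules}

theorem bijective_g (hS : S.ShortExact) (n : ℕ) (h1 : Subsingleton (Coh.HH X S.X₁ n))
    (h2 : Subsingleton (Coh.HH X S.X₁ (n + 1))) : Function.Bijective (mapLin A S.g n) := by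
  refine ⟨(injective_iff_map_eq_zero _).2 fun x hx => ?_, fun x => ?_⟩
  · obtain ⟨y, rfl⟩ := (ker_mapLin_g (A := A) hS n).le hx
    rw [Subsingleton.elim y 0, map_zero]
  · exact exists_of_deltaLin_eq_zero A hS n (Subsingleton.elim (deltaLin A hS n x) 0)

theorem bijective_delta (hS : S.ShortExact) (n : ℕ) (h1 : Subsingleton (Coh.HH X S.X₂ n))
    (h2 : Subsingleton (Coh.HH X S.X₂ (n + 1))) : Function.Bijective (deltaLin A hS n) := by
  refine ⟨(injective_iff_map_eq_zero _).2 fun x hx => ?_, fun x => ?_⟩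
  · obtain ⟨y, rfl⟩ := (ker_deltaLin A hS n).le hx
    rw [Subsingleton.elim y 0, map_zero]
  · exact (ker_mapLin_f_succ A hS n).le (LinearMap.mem_ker.2 (Subsingleton.elim _ _))

end Seq

variable {r : ℕ} {k : Type u} [Field k]

local notation "ℙr" => CohB1.ProjSpace r k

theorem nonempty_twist_zero_iso :
    Nonempty (Coh.structureModule (CohB1.ProjSpace r k) ≅ Twist.twistProjSpace r k 0) :=
  haveI := isIso_oneHom_projSpace r k
  ⟨asIso (PnCoh.Finite.oneHom (𝒜 := CohB1.polyGrading r k))⟩

theorem subsingleton_structure (q : ℕ) (hq : q ≠ 0) :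
    Subsingleton (Coh.HH ℙr (Coh.structureModule ℙr) q) := by
  haveI : Subsingleton (Coh.HH ℙr (Twist.twistProjSpace r k 0) q) :=
    S0844.result k r 0 q (fun h => hq h.1) fun h => by have := h.2; omega
  obtain ⟨e⟩ := nonempty_twist_zero_iso (r := r) (k := k)
  exact (CurveCohLib.hhEquiv (k := k) e q).injective.subsingleton

theorem finrank_structure : Module.finrank k (Coh.HH ℙr (Coh.structureModule ℙr) 0) = 1 := by
  obtain ⟨e⟩ := nonempty_twist_zero_iso (r := r) (k := k)
  obtain ⟨φ⟩ := S0843.result k r 0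
  rw [(CurveCohLib.hhEquiv (k := k) e 0).finrank_eq]
  refine (φ.finrank_eq.trans (ComodLib.GradedAug.finrank_homogeneous (k := k) (r + 1) 0).2).trans ?_
  simp

/-- Cohomology of a plane curve. -/
theorem finrank_planeCurve (d : ℕ) (hd : 1 ≤ d) {G : LefPen.Form 2 k d} (hG : G ≠ 0)
    [inst : ((LefPen.hypIdeal G).subscheme).Over (Spec (CommRingCat.of k))]
    (hinst : (LefPen.hypIdeal G).subscheme ↘ (Spec (CommRingCat.of k)) = (LefPen.hypIdeal G).subschemeι ≫ CohB1.ProjSpace.toSpec 2 k) :
    Module.finrank k (Coh.HH (LefPen.hypIdeal G).subscheme (Coh.structureModule (LefPen.hypIdeal G).subscheme) 0) = 1 ∧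
      Module.finrank k (Coh.HH (LefPen.hypIdeal G).subscheme (Coh.structureModule (LefPen.hypIdeal G).subscheme) 1) =
        (d - 1).choose 2 := by
  let I := LefPen.hypIdeal G
  obtain ⟨h, hS⟩ := exists_shortExact hG
  have hpush : ∀ q, Module.finrank k (Coh.HH I.subscheme (Coh.structureModule I.subscheme) q) =
      Module.finrank k (Coh.HH (CohB1.ProjSpace 2 k) (ClSub.quotMod I) q) := fun q => by
    obtain ⟨e⟩ := PnCoh.exists_linearEquiv_push (X := I.subscheme) (P := CohB1.ProjSpace 2 k) k I.subschemeι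
      hinst.symm (QCoh.isQCoh_structureModule (X := I.subscheme)) q
    exact e.finrank_eq
  have hvan : ∀ q, q ≠ 2 → Subsingleton (Coh.HH (CohB1.ProjSpace 2 k) (Twist.twistProjSpace 2 k (-(d : ℤ))) q) :=
    fun q hq => S0844.result k 2 (-(d : ℤ)) q (fun h => by have := h.2; omega) fun h => hq h.1
  refine ⟨?_, ?_⟩
  · rw [hpush, ← (LinearEquiv.ofBijective _ (bijective_g k hS 0 (hvan 0 (by omega)) (hvan 1 (by omega)))).finrank_eq]
    exact finrank_structure
  · rw [hpush, (LinearEquiv.ofBijective _
      (bijective_delta k hS 1 (subsingleton_structure 1 one_ne_zero) (subsingleton_structure 2 two_ne_zero))).finrank_eq]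
    rcases Nat.lt_or_ge d 3 with hd3 | hd3
    · have : Subsingleton (Coh.HH (CohB1.ProjSpace 2 k) (Twist.twistProjSpace 2 k (-(d : ℤ))) 2) :=
        S0844.result k 2 (-(d : ℤ)) 2 (fun h => by have := h.1; omega) fun h => by
          have := h.2; push_cast at this; omega
      rw [Nat.choose_eq_zero_of_lt (show d - 1 < 2 by omega)]
      exact Module.finrank_zero_of_subsingleton
    · obtain ⟨j, rfl⟩ : ∃ j, d = j + 3 := ⟨d - 3, by omega⟩
      obtain ⟨φ⟩ := S0845.result k 2 j
      have e : (-(((2 : ℕ) : ℤ) + 1 + (j : ℤ))) = -((j + 3 : ℕ) : ℤ) := by push_cast; ring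
      rw [e] at φ
      refine (φ.finrank_eq.trans (ComodLib.GradedAug.finrank_homogeneous (k := k) (2 + 1) j).2).trans ?_
      rw [show 2 + 1 + j - 1 = j + 2 by omega, show j + 3 - 1 = j + 2 by omega]
      exact Nat.choose_symm_add

end Groth.Agent.HypCurve
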