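import Groth.Agent.HypCurve.PlaneCoh
import Groth.Agent.Big.Basic
import Groth.Agent.Lib.CurveTensor
import Groth.Agent.KFlatLib.Scheme.QCohTensor
import Groth.Agent.H23.PullPush
import Groth.Agent.S0927

/-!
# `H¹(O_C(1))` of a plane curve of degree at least four
-/

set_option autoImplicit false
set_option linter.style.haveILetI false
set_option linter.unusedSectionVars false
set_option backward.isDefEq.respectTransparency false
set_option backward.isDefEq.respectTransparency.types false

universe u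

open CategoryTheory CategoryTheory.Limits AlgebraicGeometry TopologicalSpace Opposite

noncomputable section

namespace Groth.Agent.HypCurve

open Groth.Agent Groth.Agent.CurveCohLib
open Groth.Agent.PnCoh.Finite (mapLin deltaLin exists_of_deltaLin_eq_zero)

variable {k : Type u} [Field k]

theorem isInvertible_twist (r : ℕ) (d : ℤ) : PicF.IsInvertible (Twist.twistProjSpace r k d) :=
  PnCoh.Finite.isInvertible_twist (fun j : ULift.{u} (Fin (r + 1)) => MvPolynomial.X j.down)
    (fun j => LefPen.X_mem r k j.down) (by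
      refine top_le_iff.1 ((iSup_chart r k).ge.trans (iSup_le fun j => ?_))
      exact le_iSup_of_le (ULift.up j) le_rfl) d

theorem not_subsingleton_h1_twist {d : ℕ} (hd : 4 ≤ d) {G : LefPen.Form 2 k d} (hG : G ≠ 0)
    [((LefPen.hypIdeal G).subscheme).Over (Spec (CommRingCat.of k))]
    (hinst : (LefPen.hypIdeal G).subscheme ↘ (Spec (CommRingCat.of k)) = (LefPen.hypIdeal G).subschemeι ≫ CohB1.ProjSpace.toSpec 2 k) :
    ¬ Subsingleton (Coh.HH (LefPen.hypIdeal G).subscheme
      ((Scheme.Modules.pullback (LefPen.hypIdeal G).subschemeι).obj (Twist.twistProjSpace 2 k 1)) 1) := by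
  intro hM
  let X := CohB1.ProjSpace 2 k
  let ι := (LefPen.hypIdeal G).subschemeι
  let O1 := Twist.twistProjSpace 2 k 1
  have hO1 : PicF.IsInvertible O1 := isInvertible_twist 2 1
  obtain ⟨h, hS⟩ := exists_shortExact hG
  have hS' := Big.shortExact_tw hS hO1
  -- the middle term
  have e2 : (AmpleVan.tw O1).obj (Coh.structureModule X) ≅ O1 :=
    CurveTensor.commIso _ _ ≪≫ KFlatLib.tensorUnitIso O1
  haveI h22 : Subsingleton (Coh.HH X O1 2) :=
    S0844.result k 2 1 2 (fun h => by have := h.1; omega) fun h => by have := h.2; omega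
  have h2' : Subsingleton (Coh.HH X ((AmpleVan.tw O1).obj (Coh.structureModule X)) 2) :=
    (CurveCohLib.hhEquiv (k := k) e2 2).injective.subsingleton
  -- the last term
  haveI : EnoughInjectives (LefPen.hypIdeal G).subscheme.Modules := inferInstance
  obtain ⟨φ⟩ := S0927.result ι (Coh.structureModule (LefPen.hypIdeal G).subscheme) O1
    (H23.PullPush.isFinLocFree_of_isInvertible hO1) 0
  let ψ := (Scheme.Modules.pushforward ι).rightDerivedZeroIsoSelf
  let e3 : (AmpleVan.tw O1).obj (ClSub.quotMod (LefPen.hypIdeal G)) ≅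
      (Coh.push ι).obj ((Scheme.Modules.pullback ι).obj O1) :=
    CurveTensor.commIso _ _ ≪≫ (DCoh.tensorBi.obj O1).mapIso (ψ.app _).symm ≪≫ φ ≪≫ ψ.app _ ≪≫
      (Scheme.Modules.pushforward ι).mapIso (KFlatLib.tensorUnitIso ((Scheme.Modules.pullback ι).obj O1))
  obtain ⟨eP⟩ := PnCoh.exists_linearEquiv_push (X := (LefPen.hypIdeal G).subscheme) (P := X) k ι hinst.symm
    (QCoh.isQCoh_of_isFinLocFree (H23.PullPush.isFinLocFree_of_isInvertible
      (PicClLib.isInvertible_pullback ι hO1))) 1
  haveI := hM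
  haveI h31 : Subsingleton (Coh.HH X ((AmpleVan.tw O1).obj (ClSub.quotMod (LefPen.hypIdeal G))) 1) :=
    ((CurveCohLib.hhEquiv (k := k) e3 1).trans eP.symm).injective.subsingleton
  -- the first term
  obtain ⟨e1⟩ := PnCoh.Finite.twist_tensor_iso (fun j : ULift.{u} (Fin (2 + 1)) => MvPolynomial.X j.down)
    (fun j => LefPen.X_mem 2 k j.down) (by
      refine top_le_iff.1 ((iSup_chart 2 k).ge.trans (iSup_le fun j => ?_))
      exact le_iSup_of_le (ULift.up j) le_rfl) (-(d : ℤ)) 1
  obtain ⟨j, rfl⟩ : ∃ j, d = j + 4 := ⟨d - 4, by omega⟩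
  have hsurj : Function.Surjective (deltaLin k hS' 1) := fun x =>
    (ker_mapLin_f_succ k hS' 1).le (LinearMap.mem_ker.2 (h2'.elim _ _))
  haveI h12 : Subsingleton (Coh.HH X ((AmpleVan.tw O1).obj (Twist.twistProjSpace 2 k (-((j + 4 : ℕ) : ℤ)))) 2) :=
    @Function.Surjective.subsingleton _ _ _ h31 hsurj
  haveI : Subsingleton (Coh.HH X (Twist.twistProjSpace 2 k (-((j + 4 : ℕ) : ℤ) + 1)) 2) :=
    @Function.Surjective.subsingleton _ _ _ h12
      (CurveCohLib.hhEquiv (k := k) (e1 : (AmpleVan.tw O1).obj (Twist.twistProjSpace 2 k (-((j + 4 : ℕ) : ℤ))) ≅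
        Twist.twistProjSpace 2 k (-((j + 4 : ℕ) : ℤ) + 1)) 2).surjective
  obtain ⟨θ⟩ := S0845.result k 2 j
  rw [show (-(((2 : ℕ) : ℤ) + 1 + (j : ℤ))) = -((j + 4 : ℕ) : ℤ) + 1 by push_cast; ring] at θ
  haveI := θ.surjective.subsingleton
  have h1 : Module.finrank k (MvPolynomial.homogeneousSubmodule (Fin (2 + 1)) k j) = 0 :=
    Module.finrank_zero_of_subsingleton
  rw [(ComodLib.GradedAug.finrank_homogeneous (k := k) (2 + 1) j).2] at h1
  have := Nat.choose_pos (show j ≤ 2 + 1 + j - 1 by omega)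
  omega

end Groth.Agent.HypCurve
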