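import Groth.Agent.HypCurve.Smooth
import Groth.Agent.Proj16.BaseChange
import Groth.Agent.SegreX.Basic
import Groth.Agent.ModPairLib.Basic

/-!
# Base change of a hypersurface composed with a diagonal change of coordinates
-/

set_option autoImplicit false
set_option linter.style.haveILetI false
set_option linter.unusedSectionVars false
set_option backward.isDefEq.respectTransparency false
set_option backward.isDefEq.respectTransparency.types false

universe u

open CategoryTheory CategoryTheory.Limits AlgebraicGeometry TopologicalSpace Opposite MvPolynomial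
open HomogeneousLocalization

noncomputable section

namespace Groth.Agent.HypCurve.Scale

open Groth.Agent Groth.Agent.HypCurve

variable {r : ℕ} (k L : Type u) [Field k] [Field L] [Algebra k L] (c : Fin (r + 1) → Lˣ)

/-- The substitution `T_i ↦ c_i T_i`. -/
def subst : MvPolynomial (Fin (r + 1)) k →+* MvPolynomial (Fin (r + 1)) L :=
  eval₂Hom ((C : L →+* MvPolynomial (Fin (r + 1)) L).comp (algebraMap k L)) fun i => C (c i : L) * X i

theorem subst_mem {d : ℕ} {P : MvPolynomial (Fin (r + 1)) k} (hP : P ∈ CohB1.polyGrading r k d) :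
    subst k L c P ∈ CohB1.polyGrading r L d := by
  have h : IsHomogeneous (subst k L c P) (1 * d) :=
    IsHomogeneous.eval₂ (show IsHomogeneous P d from hP) _ _ (fun a => isHomogeneous_C _ _) fun i => by
      simpa using (isHomogeneous_C (Fin (r + 1)) (c i : L)).mul (isHomogeneous_X L i)
  rwa [one_mul] at h

/-- The substitution as a map of graded rings. -/
def gHom : CohB1.polyGrading r k →+*ᵍ CohB1.polyGrading r L :=
  { subst k L c with map_mem := fun h => subst_mem k L c h }

theorem C_inv_mul (i : Fin (r + 1)) :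
    C ((c i)⁻¹ : Lˣ).1 * subst k L c (X i) = (X i : MvPolynomial (Fin (r + 1)) L) := by
  rw [subst, eval₂Hom_X', ← mul_assoc, ← map_mul, Units.inv_mul, map_one, one_mul]

theorem irrelevant_le :
    HomogeneousIdeal.irrelevant (CohB1.polyGrading r L) ≤
      (HomogeneousIdeal.irrelevant (CohB1.polyGrading r k)).map (gHom k L c) := by
  intro p hp
  have h := SegreX.irrelevant_le_span r L hp
  refine (Ideal.span_le.2 ?_) h
  rintro _ ⟨i, rfl⟩
  show X i ∈ Ideal.map (gHom k L c) (HomogeneousIdeal.irrelevant (CohB1.polyGrading r k)).toIdeal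
  rw [← C_inv_mul k L c i]
  exact Ideal.mul_mem_left _ _ (Ideal.mem_map_of_mem _
    (HomogeneousIdeal.mem_irrelevant_of_mem _ one_pos (LefPen.X_mem r k i)))

/-- The map of projective spaces. -/
def map : CohB1.ProjSpace r L ⟶ CohB1.ProjSpace r k := Proj.map (gHom k L c) (irrelevant_le k L c)

theorem isScalarTower :
    letI : Algebra (MvPolynomial (Fin (r + 1)) k) (MvPolynomial (Fin (r + 1)) L) := (subst k L c).toAlgebra
    IsScalarTower k (MvPolynomial (Fin (r + 1)) k) (MvPolynomial (Fin (r + 1)) L) := by
  letI : Algebra (MvPolynomial (Fin (r + 1)) k) (MvPolynomial (Fin (r + 1)) L) := (subst k L c).toAlgebra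
  exact IsScalarTower.of_algebraMap_eq fun a => by
    show C (algebraMap k L a) = subst k L c (C a)
    rw [subst, eval₂Hom_C]
    rfl

theorem isPushout :
    letI : Algebra (MvPolynomial (Fin (r + 1)) k) (MvPolynomial (Fin (r + 1)) L) := (subst k L c).toAlgebra
    haveI := isScalarTower k L c
    Algebra.IsPushout k L (MvPolynomial (Fin (r + 1)) k) (MvPolynomial (Fin (r + 1)) L) := by
  letI : Algebra (MvPolynomial (Fin (r + 1)) k) (MvPolynomial (Fin (r + 1)) L) := (subst k L c).toAlgebra
  haveI := isScalarTower k L c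
  refine ⟨?_⟩
  let sc : MvPolynomial (Fin (r + 1)) L ≃ₐ[L] MvPolynomial (Fin (r + 1)) L :=
    AlgEquiv.ofAlgHom (aeval fun i => C (c i : L) * X i) (aeval fun i => C ((c i)⁻¹ : Lˣ).1 * X i)
      (algHom_ext fun i => by simp; rw [← mul_assoc, ← map_mul]; simp)
      (algHom_ext fun i => by simp; rw [← mul_assoc, ← map_mul]; simp)
  refine IsBaseChange.of_equiv ((algebraTensorAlgEquiv k L).toLinearEquiv.trans sc.toLinearEquiv) fun P => ?_
  show sc (algebraTensorAlgEquiv k L ((1 : L) ⊗ₜ P)) = subst k L c P
  induction P using MvPolynomial.induction_on with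
  | C a => simp [sc, subst]
  | add p q hp hq => rw [TensorProduct.tmul_add, map_add, map_add, map_add, hp, hq]
  | mul_X p i hp =>
    rw [show (1 : L) ⊗ₜ[k] (p * X i) = ((1 : L) ⊗ₜ[k] p) * ((1 : L) ⊗ₜ[k] (X i)) by
      rw [Algebra.TensorProduct.tmul_mul_tmul, one_mul], map_mul, map_mul, map_mul, hp]
    congr 1
    simp [sc, subst]

/-- The cartesian square of projective spaces. -/
theorem isPullback_map :
    IsPullback (map k L c) (CohB1.ProjSpace.toSpec r L) (CohB1.ProjSpace.toSpec r k)
      (Spec.map (CommRingCat.ofHom (algebraMap k L))) := by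
  letI : Algebra (MvPolynomial (Fin (r + 1)) k) (MvPolynomial (Fin (r + 1)) L) := (subst k L c).toAlgebra
  haveI := isScalarTower k L c
  haveI := isPushout k L c
  exact Proj16.BaseChange.isPullback_map (gHom k L c) (fun _ => rfl) (irrelevant_le k L c)

theorem chart_le (i : Fin (r + 1)) : LefPen.chart r L i ≤ map k L c ⁻¹ᵁ LefPen.chart r k i := by
  intro p (hp : (X i : MvPolynomial (Fin (r + 1)) L) ∉ p.asHomogeneousIdeal) (h : subst k L c (X i) ∈ p.asHomogeneousIdeal)
  exact hp (C_inv_mul k L c i ▸ Ideal.mul_mem_left _ _ h)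

/-- The transformed form. -/
def form {d : ℕ} (G : LefPen.Form r k d) : LefPen.Form r L d := ⟨subst k L c G.1, subst_mem k L c G.2⟩

theorem span_dehom_smul {d : ℕ} (G : LefPen.Form r L d) {a : L} (ha : a ≠ 0) (i : Fin (r + 1)) :
    Ideal.span {LefPen.dehom (a • G) i} = Ideal.span {LefPen.dehom G i} := by
  rw [dehom_eq, dehom_eq, show (a • G : LefPen.Form r L d).1 = C a * G.1 from (MvPolynomial.C_mul' ..).symm,
    map_mul, map_mul]
  refine Ideal.span_singleton_mul_left_unit (IsUnit.map _ ?_) _
  exact (ha.isUnit.map C).map _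

theorem appLE_dehom {d : ℕ} (G : LefPen.Form r k d) (i : Fin (r + 1)) :
    ((map k L c).appLE (LefPen.chart r k i) (LefPen.chart r L i) (chart_le k L c i)).hom (LefPen.dehom G i) =
      LefPen.dehom ((((c i)⁻¹ ^ d : Lˣ) : L) • form k L c G) i := by
  refine Subtype.ext <| funext fun p => ?_
  change HomogeneousLocalization.localRingHom _ _ _ _ (HomogeneousLocalization.mk _) = HomogeneousLocalization.mk _
  apply HomogeneousLocalization.val_injective
  rw [HomogeneousLocalization.val_localRingHom, HomogeneousLocalization.val_mk, HomogeneousLocalization.val_mk,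
    Localization.localRingHom_mk, Localization.mk_eq_mk_iff, Localization.r_iff_exists]
  refine ⟨1, ?_⟩
  show (1 : MvPolynomial (Fin (r + 1)) L) * (X i ^ d * subst k L c G.1) =
    1 * (subst k L c (X i ^ d) * ((((c i)⁻¹ ^ d : Lˣ) : L) • subst k L c G.1))
  rw [MvPolynomial.smul_eq_C_mul, map_pow, Units.val_pow_eq_pow_val, map_pow]
  conv_lhs => rw [← C_inv_mul k L c i, mul_pow]
  ring

/-- The inverse image of a hypersurface. -/
theorem comap_hypIdeal {d : ℕ} (G : LefPen.Form r k d) :
    (LefPen.hypIdeal G).comap (map k L c) = LefPen.hypIdeal (form k L c G) := by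
  refine eq_hypIdeal _ _ fun i => ?_
  rw [ModPairLib.ideal_comap _ (map k L c) (achart r k i) (achart r L i) (chart_le k L c i), hypIdeal_chart,
    Ideal.map_span, Set.image_singleton]
  rw [show ((map k L c).appLE (achart r k i).1 (achart r L i).1 (chart_le k L c i)).hom (LefPen.dehom G i) = _ from
    appLE_dehom k L c G i]
  exact span_dehom_smul L _ (Units.ne_zero _) i

/-- The base change of a hypersurface along the substitution. -/
theorem exists_isPullback {d : ℕ} (G : LefPen.Form r k d) {G' : LefPen.Form r L d} (hG : G'.1 = subst k L c G.1) :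
    ∃ j : (LefPen.hypIdeal G').subscheme ⟶ (LefPen.hypIdeal G).subscheme,
      IsPullback j ((LefPen.hypIdeal G').subschemeι ≫ CohB1.ProjSpace.toSpec r L)
        ((LefPen.hypIdeal G).subschemeι ≫ CohB1.ProjSpace.toSpec r k)
        (Spec.map (CommRingCat.ofHom (algebraMap k L))) := by
  obtain rfl : G' = form k L c G := Subtype.ext hG
  rw [← comap_hypIdeal]
  refine ⟨((LefPen.hypIdeal G).comapIso (map k L c)).hom ≫ pullback.snd _ _, ?_⟩
  refine (IsPullback.paste_vert ?_ (isPullback_map k L c))
  refine (IsPullback.of_iso_pullback ⟨?_⟩ ((LefPen.hypIdeal G).comapIso (map k L c))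
    (by rw [Scheme.IdealSheafData.comapIso_hom_fst]) rfl).flip
  rw [← Scheme.IdealSheafData.comapIso_hom_fst, Category.assoc, pullback.condition, Category.assoc]

end Groth.Agent.HypCurve.Scale
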