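import Groth.Agent.HypCurve.PointEqns
import Mathlib.RingTheory.MvPolynomial.Homogeneous
import Mathlib.LinearAlgebra.Finsupp.LinearCombination

/-!
# The polynomials vanishing on the Weierstrass functions
-/

set_option autoImplicit false
set_option linter.style.haveILetI false
set_option linter.unusedSectionVars false

universe u

open CategoryTheory CategoryTheory.Limits AlgebraicGeometry MvPolynomial

noncomputable section

namespace Groth.Agent.HypCurve

open Groth.Agent Groth.Agent.CurveCohLib Groth.Agent.CurveCohLib.Polar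

/-- Homogeneity scales evaluation. -/
theorem eval₂Hom_mul_pow {σ R S : Type*} [CommSemiring R] [CommSemiring S] {P : MvPolynomial σ R} {m : ℕ}
    (hP : P.IsHomogeneous m) (f : R →+* S) (v : σ → S) (t : S) :
    eval₂Hom f (fun j => v j * t) P = eval₂Hom f v P * t ^ m := by
  classical
  conv_lhs => rw [P.as_sum]
  conv_rhs => rw [P.as_sum]
  rw [map_sum, map_sum, Finset.sum_mul]
  refine Finset.sum_congr rfl fun d hd => ?_
  rw [eval₂Hom_monomial, eval₂Hom_monomial, Finsupp.prod, Finsupp.prod, mul_assoc]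
  refine congrArg _ ?_
  simp_rw [mul_pow]
  rw [Finset.prod_mul_distrib, Finset.prod_pow_eq_pow_sum]
  refine congrArg (fun e => _ * t ^ e) ?_
  have := hP (MvPolynomial.mem_support_iff.1 hd)
  rwa [Finsupp.weight_apply, Finsupp.sum, Finset.sum_congr rfl fun j _ => (by simp : d j • (1 : σ → ℕ) j = d j)] at this

variable {k : Type u} [Field k]

/-- The Weierstrass form. -/
def wPoly (a₁ a₂ a₃ a₄ a₆ : k) : MvPolynomial (Fin (2 + 1)) k :=
  X 1 ^ 2 * X 2 + C a₁ * X 0 * X 1 * X 2 + C a₃ * X 1 * X 2 ^ 2 - X 0 ^ 3 - C a₂ * X 0 ^ 2 * X 2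
    - C a₄ * X 0 * X 2 ^ 2 - C a₆ * X 2 ^ 3

theorem isHomogeneous_wPoly (a₁ a₂ a₃ a₄ a₆ : k) : (wPoly a₁ a₂ a₃ a₄ a₆).IsHomogeneous 3 := by
  have hX : ∀ (i : Fin (2 + 1)) (n : ℕ), ((X i : MvPolynomial (Fin (2 + 1)) k) ^ n).IsHomogeneous n := fun i n => by
    simpa using (isHomogeneous_X k i).pow n
  have hX1 : ∀ i : Fin (2 + 1), (X i : MvPolynomial (Fin (2 + 1)) k).IsHomogeneous 1 := fun i => isHomogeneous_X k i
  exact (((((((hX 1 2).mul (hX1 2)).add ((((hX1 0).C_mul a₁).mul (hX1 1)).mul (hX1 2))).add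
    (((hX1 1).C_mul a₃).mul (hX 2 2))).sub (hX 0 3)).sub (((hX 0 2).C_mul a₂).mul (hX1 2))).sub
    (((hX1 0).C_mul a₄).mul (hX 2 2))).sub ((hX 2 3).C_mul a₆)

/-- A monomial in the three coordinates. -/
def mono3 (a b c : ℕ) : MvPolynomial (Fin (2 + 1)) k := X 0 ^ a * X 1 ^ b * X 2 ^ c

variable (k) in
/-- The reduced monomials of degree `m`. -/
def reducedIdx (m : ℕ) : Type := {p : ℕ × ℕ // p.1 ≤ 2 ∧ p.1 + p.2 ≤ m}

theorem mono3_mem (a₁ a₂ a₃ a₄ a₆ : k) (m : ℕ) : ∀ a b c : ℕ, a + b + c = m →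
    (mono3 a b c : MvPolynomial (Fin (2 + 1)) k) ∈ (Ideal.span {wPoly a₁ a₂ a₃ a₄ a₆}).restrictScalars k ⊔
      Submodule.span k (Set.range fun p : reducedIdx m => mono3 p.1.1 p.1.2 (m - p.1.1 - p.1.2)) := by
  intro a
  induction a using Nat.strong_induction_on with
  | _ a ih =>
    intro b c habc
    rcases Nat.lt_or_ge a 3 with ha | ha
    · refine Submodule.mem_sup_right (Submodule.subset_span ⟨⟨(a, b), by omega, by omega⟩, ?_⟩)
      show mono3 a b (m - a - b) = _
      rw [show m - a - b = c by omega]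
    · obtain ⟨a, rfl⟩ : ∃ a', a = a' + 3 := ⟨a - 3, by omega⟩
      have e : (mono3 (a + 3) b c : MvPolynomial (Fin (2 + 1)) k) =
          mono3 a (b + 2) (c + 1) + a₁ • mono3 (a + 1) (b + 1) (c + 1) + a₃ • mono3 a (b + 1) (c + 2)
            - a₂ • mono3 (a + 2) b (c + 1) - a₄ • mono3 (a + 1) b (c + 2) - a₆ • mono3 a b (c + 3)
            - mono3 a b c * wPoly a₁ a₂ a₃ a₄ a₆ := by
        simp only [mono3, wPoly, smul_eq_C_mul]
        ring
      rw [e]
      refine Submodule.sub_mem _ (Submodule.sub_mem _ (Submodule.sub_mem _ (Submodule.sub_mem _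
        (Submodule.add_mem _ (Submodule.add_mem _ ?_ (Submodule.smul_mem _ _ ?_)) (Submodule.smul_mem _ _ ?_))
        (Submodule.smul_mem _ _ ?_)) (Submodule.smul_mem _ _ ?_)) (Submodule.smul_mem _ _ ?_))
        (Submodule.mem_sup_left (Ideal.mul_mem_left _ _ (Ideal.mem_span_singleton_self _)))
      all_goals exact ih _ (by omega) _ _ (by omega)

theorem homogeneous_mem (a₁ a₂ a₃ a₄ a₆ : k) {m : ℕ} {P : MvPolynomial (Fin (2 + 1)) k} (hP : P.IsHomogeneous m) :
    P ∈ (Ideal.span {wPoly a₁ a₂ a₃ a₄ a₆}).restrictScalars k ⊔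
      Submodule.span k (Set.range fun p : reducedIdx m => mono3 p.1.1 p.1.2 (m - p.1.1 - p.1.2)) := by
  classical
  rw [P.as_sum]
  refine Submodule.sum_mem _ fun d hd => ?_
  have hdeg : d 0 + d 1 + d 2 = m := by
    have := hP (MvPolynomial.mem_support_iff.1 hd)
    rw [Finsupp.weight_apply, Finsupp.sum_fintype _ _ (by simp), Fin.sum_univ_three] at this
    simpa using this
  have e : monomial d (coeff d P) = coeff d P • mono3 (d 0) (d 1) (d 2) := by
    rw [monomial_eq, Finsupp.prod_fintype _ _ (by simp), Fin.prod_univ_three, smul_eq_C_mul]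
    rfl
  rw [e]
  exact Submodule.smul_mem _ _ (mono3_mem a₁ a₂ a₃ a₄ a₆ m _ _ _ hdeg)

variable {X : Scheme.{u}} [IsIntegral X] [X.Over (Spec (CommRingCat.of k))]

local notation "K" => X.functionField

/-- A form vanishing at `(x : y : 1)` is a multiple of the Weierstrass form. -/
theorem mem_span_of_eval_eq_zero {D : Eqns X} {o : X} (P : IsPointEqns k D o) {x y : K}
    (hx : x ∈ sections k D 2) (hxe : Exact' D o 2 x) (hy : y ∈ sections k D 3) (hye : Exact' D o 3 y)
    {a₁ a₂ a₃ a₄ a₆ : k}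
    (hW : eval₂Hom (cK k) ![x, y, 1] (wPoly a₁ a₂ a₃ a₄ a₆) = 0)
    {m : ℕ} {F : MvPolynomial (Fin (2 + 1)) k} (hF : F.IsHomogeneous m)
    (h0 : eval₂Hom (cK k) ![x, y, 1] F = 0) : F ∈ Ideal.span {wPoly a₁ a₂ a₃ a₄ a₆} := by
  classical
  letI := algK k (X := X)
  obtain ⟨j, hj, s, hs, rfl⟩ := Submodule.mem_sup.1 (homogeneous_mem a₁ a₂ a₃ a₄ a₆ hF)
  obtain ⟨q, rfl⟩ := Ideal.mem_span_singleton'.1 hj
  rw [map_add, map_mul, hW, mul_zero, zero_add] at h0
  obtain ⟨c, rfl⟩ := Finsupp.mem_span_range_iff_exists_finsupp.1 hs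
  suffices hc : c = 0 by subst hc; simpa using Ideal.mul_mem_left _ q (Ideal.mem_span_singleton_self _)
  have hli : LinearIndependent k fun p : reducedIdx m => x ^ p.1.1 * y ^ p.1.2 := by
    refine P.linearIndependent_of_exact _ (fun p => 2 * p.1.1 + 3 * p.1.2) ?_ ?_ ?_
    · rintro ⟨⟨a, b⟩, ha, hb⟩ ⟨⟨a', b'⟩, ha', hb'⟩ h
      simp only at h ha ha'
      have : a = a' := by omega
      subst this
      have : b = b' := by omega
      subst this
      rfl
    · intro p z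
      rw [pow_add, pow_mul, pow_mul,
        show (D.A z ^ 2) ^ p.1.1 * (D.A z ^ 3) ^ p.1.2 * (x ^ p.1.1 * y ^ p.1.2) =
          (D.A z ^ 2 * x) ^ p.1.1 * (D.A z ^ 3 * y) ^ p.1.2 by ring]
      exact ((hx z).pow _).mul ((hy z).pow _)
    · intro p
      have := P.exact_mul (P.exact_pow hxe p.1.1) (P.exact_pow hye p.1.2)
      rwa [mul_comm p.1.1, mul_comm p.1.2] at this
  refine linearIndependent_iff.1 hli c ?_
  refine Eq.trans ?_ h0
  show _ = (aeval (R := k) ![x, y, 1]) (c.sum fun p t => t • mono3 p.1.1 p.1.2 (m - p.1.1 - p.1.2))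
  rw [map_finsuppSum, Finsupp.linearCombination_apply]
  refine Finsupp.sum_congr fun p _ => ?_
  rw [map_smul]
  simp [mono3]

end Groth.Agent.HypCurve
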