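import Groth.Agent.HypCurve.Ideal
import Groth.Agent.HypCurve.CubicPoly
import Groth.Agent.CurveVA.Converse
import Groth.Agent.Lib.AVAmple

/-!
# Morphisms to projective space given by rational functions
-/

set_option autoImplicit false
set_option linter.style.haveILetI false
set_option linter.unusedSectionVars false
set_option backward.isDefEq.respectTransparency false
set_option backward.isDefEq.respectTransparency.types false

universe u

open CategoryTheory CategoryTheory.Limits AlgebraicGeometry TopologicalSpace Opposite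
open HomogeneousLocalization (Away)

noncomputable section

namespace Groth.Agent.HypCurve

open Groth.Agent Groth.Agent.InvX Groth.Agent.H23 Groth.Agent.CurveCohLib Groth.Agent.CurveCohLib.Polar

variable {n : ℕ} {k : Type u} [Field k] {X : Scheme.{u}} [IsIntegral X] [X.Over (Spec (CommRingCat.of k))]

local notation "K" => X.functionField

variable (r : X ⟶ CohB1.ProjSpace n k)

/-- The functions on a chart as rational functions. -/
def chartFun (i : Fin (n + 1)) {x : X} (hx : x ∈ r ⁻¹ᵁ LefPen.chart n k i) :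
    Γ(CohB1.ProjSpace n k, LefPen.chart n k i) →+* K :=
  (gη hx).comp (r.app (LefPen.chart n k i)).hom

theorem awayToSection_bijective (i : Fin (n + 1)) :
    Function.Bijective (Proj.awayToSection (CohB1.polyGrading n k) (MvPolynomial.X i)).hom := by
  haveI : IsIso (Proj.awayToSection (CohB1.polyGrading n k) (MvPolynomial.X i)) :=
    inferInstanceAs (IsIso (Proj.basicOpenIsoAway (CohB1.polyGrading n k) (MvPolynomial.X i)
      (ZetaLib.X_mem_one n k i) Nat.one_pos).hom)
  exact ConcreteCategory.bijective_of_isIso (Proj.awayToSection (CohB1.polyGrading n k) (MvPolynomial.X i))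

/-- Every chart function is the dehomogenisation of a form. -/
theorem exists_form_dehom (i : Fin (n + 1)) (g : Γ(CohB1.ProjSpace n k, LefPen.chart n k i)) :
    ∃ (m : ℕ) (F : LefPen.Form n k m), LefPen.dehom F i = g := by
  obtain ⟨z, rfl⟩ := (awayToSection_bijective i).2 g
  obtain ⟨m, F, hF, rfl⟩ := HomogeneousLocalization.Away.mk_surjective (CohB1.polyGrading n k) (LefPen.X_mem n k i) z
  exact ⟨m, ⟨F, by simpa using hF⟩, rfl⟩

variable {r} (hr : r ≫ CohB1.ProjSpace.toSpec n k = X ↘ Spec (CommRingCat.of k))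
  {L : X.Modules} (τ : (Scheme.Modules.pullback r).obj (Twist.twistProjSpace n k 1) ≅ L)
  {s : Fin (n + 1) → Γ(L, ⊤)}
  (hτ : ∀ i, τ.hom.app ⊤ (ProjUP.pullSec r (Twist.twistProjSpace n k 1) (ProjUP.coord n k i)) = s i)

include hr

theorem chartFun_base (i : Fin (n + 1)) {x : X} (hx : x ∈ r ⁻¹ᵁ LefPen.chart n k i) (c : k) :
    chartFun r i hx ((Proj.awayToSection (CohB1.polyGrading n k) (MvPolynomial.X i)).hom (ZetaLib.base n k i c)) =
      cK k c := by
  rw [← CurveVA.toSpec_appLE_chart n k i c]
  show gη hx ((r.app (LefPen.chart n k i)).hom _) = _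
  rw [Scheme.Hom.app_eq_appLE, ← CommRingCat.comp_apply, Scheme.Hom.appLE_comp_appLE]
  simp only [hr]
  exact gη_res (W := ⊤) le_top hx (y := genericPoint X) trivial _

include hτ

/-- The ring map of a chart is evaluation at the ratios of the coordinates. -/
theorem chartFun_dehom (i : Fin (n + 1)) {x : X} (hx : x ∈ r ⁻¹ᵁ LefPen.chart n k i) (v : Fin (n + 1) → K)
    (hv : ∀ j (b : Γ(X, r ⁻¹ᵁ LefPen.chart n k i)),
      AModX.res L (le_top : r ⁻¹ᵁ LefPen.chart n k i ≤ ⊤) (s j) = b • AModX.res L le_top (s i) → gη hx b = v j)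
    (F : MvPolynomial (Fin (n + 1)) k) :
    chartFun r i hx ((Proj.awayToSection (CohB1.polyGrading n k) (MvPolynomial.X i)).hom (ZetaLib.dehom n k i F)) =
      MvPolynomial.eval₂Hom (cK k) v F := by
  have h : ((chartFun r i hx).comp (Proj.awayToSection (CohB1.polyGrading n k) (MvPolynomial.X i)).hom).comp
      (ZetaLib.dehom n k i) = MvPolynomial.eval₂Hom (cK k) v := by
    refine MvPolynomial.ringHom_ext (fun c => ?_) fun j => ?_
    · rw [MvPolynomial.eval₂Hom_C]
      show chartFun r i hx ((Proj.awayToSection (CohB1.polyGrading n k) (MvPolynomial.X i)).hom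
        (ZetaLib.dehom n k i (MvPolynomial.C c))) = _
      rw [ZetaLib.dehom, MvPolynomial.eval₂Hom_C]
      exact chartFun_base hr i hx c
    · rw [MvPolynomial.eval₂Hom_X']
      show chartFun r i hx ((Proj.awayToSection (CohB1.polyGrading n k) (MvPolynomial.X i)).hom
        (ZetaLib.dehom n k i (MvPolynomial.X j))) = _
      rw [ZetaLib.dehom, MvPolynomial.eval₂Hom_X']
      have hfr : IsFrame (AModX.res L (le_top : r ⁻¹ᵁ LefPen.chart n k i ≤ ⊤) (s i)) :=
        TrivBasic.isFrame_res_of_le_locus (AmpleEmbed.preimage_chart r τ i (hτ i)).le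
      obtain ⟨b, hb⟩ := hfr.exists_coord le_rfl (AModX.res L le_top (s j))
      rw [AModX.res_self] at hb
      rw [← hv j b hb]
      refine congrArg (gη hx) ?_
      rw [← AmpleEmbed.ratioOf_eq r τ i j (hτ i) (hτ j) le_rfl b hb, Scheme.Hom.app_eq_appLE]
      rfl
  exact RingHom.congr_fun h F

theorem chartFun_dehom_form (i : Fin (n + 1)) {x : X} (hx : x ∈ r ⁻¹ᵁ LefPen.chart n k i) (v : Fin (n + 1) → K)
    (hv : ∀ j (b : Γ(X, r ⁻¹ᵁ LefPen.chart n k i)),
      AModX.res L (le_top : r ⁻¹ᵁ LefPen.chart n k i ≤ ⊤) (s j) = b • AModX.res L le_top (s i) → gη hx b = v j)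
    {m : ℕ} (F : LefPen.Form n k m) :
    chartFun r i hx (LefPen.dehom F i) = MvPolynomial.eval₂Hom (cK k) v F.1 := by
  rw [dehom_eq]
  exact chartFun_dehom hr τ hτ i hx v hv F.1

end Groth.Agent.HypCurve
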