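import Groth.Agent.AVDegLib.Pull
import Groth.Agent.CurveBC.FiniteDim
import Groth.Agent.CurveCohLib.Proper
import Groth.Agent.CurveCohLib.Polar
import Groth.Agent.CurveEmbed.Pow
import Groth.Agent.KZ.OpenExt
import Groth.Agent.PnCoh.PushNat
import Groth.Agent.HyperellLib.Push
import Groth.Agent.H23.PullPush
import Groth.Agent.QCoh.CokerQC
import Groth.Agent.S0019
import Groth.Agent.S0047

/-!
# Line bundles with nonvanishing `H¹` and double covers of curves without `H¹(O)`
-/

set_option autoImplicit false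
set_option linter.style.haveILetI false
set_option linter.unusedSectionVars false
set_option backward.isDefEq.respectTransparency false
set_option backward.isDefEq.respectTransparency.types false
set_option synthInstance.maxHeartbeats 100000

universe u

open CategoryTheory CategoryTheory.Limits AlgebraicGeometry TopologicalSpace Opposite

noncomputable section

namespace Groth.Agent.HypCurve

open Groth.Agent Groth.Agent.InvX Groth.Agent.CurveCohLib.Polar
open Groth.Agent.PnCoh.Finite (mapLin)

/-- The two global sections as a map from two copies of the structure module. -/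
def pairMap {P : Scheme.{u}} {E : P.Modules} (σ τ : Γ(E, ⊤)) : Coh.structureModule P ⊞ Coh.structureModule P ⟶ E :=
  biprod.fst ≫ ofSect σ + biprod.snd ≫ ofSect τ

theorem pairMap_app {P : Scheme.{u}} {E : P.Modules} (σ τ : Γ(E, ⊤)) (W : P.Opens)
    (a : Γ(Coh.structureModule P ⊞ Coh.structureModule P, W)) :
    (pairMap σ τ).app W a =
      (show Γ(P, W) from (biprod.fst : _ ⟶ Coh.structureModule P).app W a) • AModX.res E (le_top : W ≤ ⊤) σ +
      (show Γ(P, W) from (biprod.snd : _ ⟶ Coh.structureModule P).app W a) • AModX.res E (le_top : W ≤ ⊤) τ := by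
  rfl

theorem exists_pair {P : Scheme.{u}} (W : P.Opens) (x y : Γ(P, W)) :
    ∃ a : Γ(Coh.structureModule P ⊞ Coh.structureModule P, W),
      (show Γ(P, W) from (biprod.fst : _ ⟶ Coh.structureModule P).app W a) = x ∧
      (show Γ(P, W) from (biprod.snd : _ ⟶ Coh.structureModule P).app W a) = y := by
  let O := Coh.structureModule P
  refine ⟨(biprod.inl : O ⟶ O ⊞ O).app W (show Γ(O, W) from x) + (biprod.inr : O ⟶ O ⊞ O).app W (show Γ(O, W) from y), ?_, ?_⟩
  · show (biprod.fst : O ⊞ O ⟶ O).app W _ = (show Γ(O, W) from x)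
    rw [map_add]
    show ((biprod.inl : O ⟶ O ⊞ O) ≫ biprod.fst).app W (show Γ(O, W) from x) +
      ((biprod.inr : O ⟶ O ⊞ O) ≫ biprod.fst).app W (show Γ(O, W) from y) = _
    rw [biprod.inl_fst, biprod.inr_fst]
    exact add_zero (show Γ(O, W) from x)
  · show (biprod.snd : O ⊞ O ⟶ O).app W _ = (show Γ(O, W) from y)
    rw [map_add]
    show ((biprod.inl : O ⟶ O ⊞ O) ≫ biprod.snd).app W (show Γ(O, W) from x) +
      ((biprod.inr : O ⟶ O ⊞ O) ≫ biprod.snd).app W (show Γ(O, W) from y) = _
    rw [biprod.inl_snd, biprod.inr_snd]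
    exact zero_add (show Γ(O, W) from y)

theorem pair_eq_zero {P : Scheme.{u}} (W : P.Opens) (a : Γ(Coh.structureModule P ⊞ Coh.structureModule P, W))
    (hx : (biprod.fst : _ ⟶ Coh.structureModule P).app W a = 0)
    (hy : (biprod.snd : _ ⟶ Coh.structureModule P).app W a = 0) : a = 0 := by
  have h := congr(($(biprod.total (X := Coh.structureModule P) (Y := Coh.structureModule P))).app W a)
  refine h.symm.trans ?_
  show (biprod.inl : _ ⟶ Coh.structureModule P ⊞ Coh.structureModule P).app W
      ((biprod.fst : _ ⟶ Coh.structureModule P).app W a) +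
    (biprod.inr : _ ⟶ Coh.structureModule P ⊞ Coh.structureModule P).app W
      ((biprod.snd : _ ⟶ Coh.structureModule P).app W a) = 0
  rw [hx, hy, map_zero, map_zero, add_zero]

variable {k : Type u} [Field k]

theorem subsingleton_hh_biprod {X : Scheme.{u}} [X.Over (Spec (CommRingCat.of k))] (A B : X.Modules) (n : ℕ)
    (hA : Subsingleton (Coh.HH X A n)) (hB : Subsingleton (Coh.HH X B n)) : Subsingleton (Coh.HH X (A ⊞ B) n) :=
  subsingleton_of_forall_eq 0 fun x => by
    rw [← HyperellLib.total_apply k n x, hA.elim (mapLin k (biprod.fst : A ⊞ B ⟶ A) n x) 0,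
      hB.elim (mapLin k (biprod.snd : A ⊞ B ⟶ B) n x) 0, map_zero, map_zero, add_zero]

variable {A B : Over (Spec (CommRingCat.of k))} [IsIntegral A.left] [IsIntegral B.left]
  (φ : A ⟶ B) [IsFinite φ.left] [Surjective φ.left]

local notation "η'" => genericPoint B.left

theorem exists_ratio {e' : A.left.functionField} {t : A.left.functionField}
    (hd : letI := AVDegLib.ffExt φ; Module.finrank B.left.functionField A.left.functionField = 2)
    (ht : t ∉ (AVDegLib.ffMap φ).range) :
    ∃ x y : B.left.functionField, e' = AVDegLib.ffMap φ x + AVDegLib.ffMap φ y * t := by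
  letI := AVDegLib.ffExt φ
  have hli : LinearIndependent B.left.functionField ![(1 : A.left.functionField), t] := by
    rw [LinearIndependent.pair_iff]
    intro a b hab
    rw [Algebra.smul_def, Algebra.smul_def, mul_one] at hab
    by_cases hb : b = 0
    · subst hb
      rw [map_zero, zero_mul, add_zero] at hab
      exact ⟨(map_eq_zero_iff _ (AVDegLib.ffMap φ).injective).1 hab, rfl⟩
    · refine absurd ⟨-a / b, ?_⟩ ht
      rw [map_div₀, map_neg, div_eq_iff ((map_ne_zero (AVDegLib.ffMap φ)).2 hb)]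
      linear_combination -hab
  have htop := hli.span_eq_top_of_card_eq_finrank (by simp [hd])
  have hmem : e' ∈ Submodule.span B.left.functionField (Set.range ![(1 : A.left.functionField), t]) :=
    htop ▸ Submodule.mem_top
  rw [Matrix.range_cons_cons_empty, Submodule.mem_span_pair] at hmem
  obtain ⟨x, y, hxy⟩ := hmem
  refine ⟨x, y, ?_⟩
  rw [← hxy, Algebra.smul_def, Algebra.smul_def, mul_one]
  rfl

variable [IsProper B.hom] [Flat φ.left]

/-- The key step: the ratio of two sections of a module with nonvanishing `H¹` comes from the base. -/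
theorem ratio_mem_range (hrk : ∀ y, φ.left.finrank y = 2)
    (hB1 : letI : B.left.Over (Spec (CommRingCat.of k)) := ⟨B.hom⟩;
      Subsingleton (Coh.HH B.left (Coh.structureModule B.left) 1))
    (hdim : topologicalKrullDim B.left = 1)
    {M : A.left.Modules} (hM : PicF.IsInvertible M)
    (h1 : letI : A.left.Over (Spec (CommRingCat.of k)) := ⟨A.hom⟩; ¬ Subsingleton (Coh.HH A.left M 1))
    {U : A.left.Opens} (hU : genericPoint A.left ∈ U) (s t : Γ(M, ⊤))
    (hfr : IsFrame (AModX.res M (le_top : U ≤ ⊤) s)) (b : Γ(A.left, U))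
    (hb : AModX.res M (le_top : U ≤ ⊤) t = b • AModX.res M (le_top : U ≤ ⊤) s) :
    gη hU b ∈ (AVDegLib.ffMap φ).range := by
  classical
  letI : A.left.Over (Spec (CommRingCat.of k)) := ⟨A.hom⟩
  letI : B.left.Over (Spec (CommRingCat.of k)) := ⟨B.hom⟩
  haveI : IsProper (B.left ↘ Spec (CommRingCat.of k)) := inferInstanceAs (IsProper B.hom)
  haveI := CurveCohLib.isNoetherian_of_proper (k := k) (X := B.left)
  haveI : IsLocallyNoetherian A.left := LocallyOfFiniteType.isLocallyNoetherian φ.left
  haveI : LocallyOfFinitePresentation φ.left := inferInstance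
  by_contra ht
  have hd : letI := AVDegLib.ffExt φ; Module.finrank B.left.functionField A.left.functionField = 2 :=
    (AVDegLib.finrank_eq φ η').symm.trans (hrk η')
  let h := φ.left
  let E : B.left.Modules := (Scheme.Modules.pushforward h).obj M
  let σ : Γ(E, ⊤) := s
  let τ : Γ(E, ⊤) := t
  let Φ := pairMap σ τ
  have hcoord : ∀ (W : B.left.Opens) (hW : η' ∈ W) (hWU : h ⁻¹ᵁ W ≤ U) (x y : Γ(B.left, W)),
      (show Γ(M, h ⁻¹ᵁ W) from x • AModX.res E (le_top : W ≤ ⊤) σ + y • AModX.res E (le_top : W ≤ ⊤) τ) =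
        ((h.app W).hom x + (h.app W).hom y * AModX.resR hWU b) • AModX.res M (le_top : h ⁻¹ᵁ W ≤ ⊤) s := by
    intro W hW hWU x y
    have e : AModX.res M (le_top : h ⁻¹ᵁ W ≤ ⊤) t =
        AModX.resR hWU b • AModX.res M (le_top : h ⁻¹ᵁ W ≤ ⊤) s := by
      have := congrArg (AModX.res M hWU) hb
      rwa [AModX.res_res, AModX.res_smul, AModX.res_res] at this
    show (h.app W).hom x • AModX.res M (le_top : h ⁻¹ᵁ W ≤ ⊤) s +
      (h.app W).hom y • AModX.res M (le_top : h ⁻¹ᵁ W ≤ ⊤) t = _
    rw [e, ← mul_smul, ← add_smul]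
  have hgm : ∀ (W : B.left.Opens) (hW : η' ∈ W) (hη : genericPoint A.left ∈ h ⁻¹ᵁ W) (x : Γ(B.left, W)),
      gη hη ((h.app W).hom x) = AVDegLib.ffMap φ (B.left.presheaf.germ W η' hW x) := fun W hW hη x =>
    (AVDegLib.ffMap_gm φ hW x).symm
  haveI : Mono Φ := QCoh.mono_of_app_injective _ fun W => (injective_iff_map_eq_zero _).2 fun a ha => by
    rcases Set.eq_empty_or_nonempty (W : Set B.left) with h0 | ⟨p, hp⟩
    · exact AModX.eq_of_locally _ _ fun q hq =>
        absurd (show q ∈ (W : Set B.left) from hq) (by rw [h0]; exact Set.notMem_empty q)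
    have hW : η' ∈ W := ((genericPoint_spec B.left).mem_open_set_iff W.isOpen).2 ⟨p, trivial, hp⟩
    have hηW := AVDegLib.eta_preimage φ hW
    rw [pairMap_app] at ha
    let V := h ⁻¹ᵁ W ⊓ U
    have hV : genericPoint A.left ∈ V := ⟨hηW, hU⟩
    let x : Γ(B.left, W) := (biprod.fst : _ ⟶ Coh.structureModule B.left).app W a
    let y : Γ(B.left, W) := (biprod.snd : _ ⟶ Coh.structureModule B.left).app W a
    have e := congrArg (AModX.res M (inf_le_left : V ≤ h ⁻¹ᵁ W)) (show (h.app W).hom x • AModX.res M (le_top : h ⁻¹ᵁ W ≤ ⊤) s +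
      (h.app W).hom y • AModX.res M (le_top : h ⁻¹ᵁ W ≤ ⊤) t = 0 from ha)
    have e' := congrArg (AModX.res M (inf_le_right : V ≤ U)) hb
    rw [map_add, AModX.res_smul, AModX.res_smul, AModX.res_res, AModX.res_res, map_zero] at e
    rw [AModX.res_res, AModX.res_smul, AModX.res_res] at e'
    rw [e', ← mul_smul, ← add_smul] at e
    have hfrV := hfr.res (inf_le_right : V ≤ U)
    rw [AModX.res_res] at hfrV
    have h3 := hfrV.coord_unique le_rfl (r' := 0) (by rw [AModX.res_self, e, zero_smul])
    have h4 := congrArg (gη hV) h3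
    rw [map_add, map_mul, map_zero, gη_res _ hV hηW, gη_res _ hV hηW, gη_res _ hV hU, hgm W hW, hgm W hW] at h4
    have hy : B.left.presheaf.germ W η' hW y = 0 := by
      by_contra hy
      refine ht ⟨-(B.left.presheaf.germ W η' hW x) / B.left.presheaf.germ W η' hW y, ?_⟩
      rw [map_div₀, map_neg, div_eq_iff ((map_ne_zero (AVDegLib.ffMap φ)).2 hy)]
      linear_combination -h4
    have hx : B.left.presheaf.germ W η' hW x = 0 := by
      rw [hy, map_zero, zero_mul, add_zero] at h4
      exact (map_eq_zero_iff _ (AVDegLib.ffMap φ).injective).1 h4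
    exact pair_eq_zero W a (germ_injective_of_isIntegral B.left η' hW (hx.trans (map_zero _).symm))
      (germ_injective_of_isIntegral B.left η' hW (hy.trans (map_zero _).symm))
  have hsupp : ∀ z ∈ CohB1.support (cokernel Φ), IsClosed ({z} : Set B.left) := by
    intro z hz
    by_contra hne
    obtain rfl := CurveCohLib.eq_genericPoint_of_not_isClosed hdim hne
    refine hz (subsingleton_of_forall_eq 0 fun m => ?_)
    obtain ⟨W, hW, w, rfl⟩ := (cokernel Φ).presheaf.exists_germ_eq m
    obtain ⟨V, iV, hV, c, hc⟩ := QCoh.exists_local_preimage (cokernel.π Φ) w hW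
    let T : B.left.Opens := ⟨(h '' ((U : Set A.left)ᶜ))ᶜ, (h.isClosedMap _ U.isOpen.isClosed_compl).isOpen_compl⟩
    have hT : η' ∈ T := by
      rintro ⟨p, hp, hpe⟩
      exact hp (CurveBC.eq_of_specializes_fibre h ((genericPoint_spec A.left).specializes (Set.mem_univ p))
        ((AVDegLib.map_eta φ).trans hpe.symm) ▸ hU)
    let V₁ := V ⊓ T
    have hV₁ : η' ∈ V₁ := ⟨hV, hT⟩
    have hV₁U : h ⁻¹ᵁ V₁ ≤ U := fun p hp => by
      by_contra hn
      exact hp.2 ⟨p, hn, rfl⟩
    have hf₁ := hfr.res hV₁U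
    rw [AModX.res_res] at hf₁
    obtain ⟨g, hg⟩ := hf₁.exists_coord le_rfl (show Γ(M, h ⁻¹ᵁ V₁) from AModX.res E (inf_le_left : V₁ ≤ V) c)
    rw [AModX.res_self] at hg
    obtain ⟨x, y, hxy⟩ := exists_ratio φ (e' := gη (AVDegLib.eta_preimage φ hV₁) g) hd ht
    obtain ⟨Wx, hWx, x', hx'⟩ := B.left.presheaf.exists_germ_eq x
    obtain ⟨Wy, hWy, y', hy'⟩ := B.left.presheaf.exists_germ_eq y
    let V₂ := V₁ ⊓ (Wx ⊓ Wy)
    have hV₂ : η' ∈ V₂ := ⟨hV₁, hWx, hWy⟩
    have h21 : V₂ ≤ V₁ := inf_le_left
    have hηV₂ := AVDegLib.eta_preimage φ hV₂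
    have hV₂U : h ⁻¹ᵁ V₂ ≤ U := (h.preimage_mono h21).trans hV₁U
    let xr := AModX.resR (show V₂ ≤ Wx from inf_le_right.trans inf_le_left) x'
    let yr := AModX.resR (show V₂ ≤ Wy from inf_le_right.trans inf_le_right) y'
    obtain ⟨a, ha1, ha2⟩ := exists_pair V₂ xr yr
    have key : Φ.app V₂ a = AModX.res E (h21.trans inf_le_left) c := by
      rw [pairMap_app, ha1, ha2]
      refine (hcoord V₂ hV₂ hV₂U xr yr).trans ?_
      have hg2 := congrArg (AModX.res M (h.preimage_mono h21)) hg
      rw [AModX.res_smul, AModX.res_res] at hg2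
      refine Eq.trans (congrArg (fun q => q • AModX.res M (le_top : h ⁻¹ᵁ V₂ ≤ ⊤) s) (gη_injective hηV₂ ?_))
        (hg2.symm.trans ?_)
      · rw [map_add, map_mul, hgm V₂ hV₂, hgm V₂ hV₂, gη_res _ hηV₂ hU, gη_res _ hηV₂ (AVDegLib.eta_preimage φ hV₁), hxy,
          ← hx', ← hy']
        rw [show B.left.presheaf.germ V₂ η' hV₂ xr = B.left.presheaf.germ Wx η' hWx x' from
            B.left.presheaf.germ_res_apply _ _ _ _,
          show B.left.presheaf.germ V₂ η' hV₂ yr = B.left.presheaf.germ Wy η' hWy y' from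
            B.left.presheaf.germ_res_apply _ _ _ _]
      · show AModX.res E h21 (AModX.res E inf_le_left c) = _
        rw [AModX.res_res]
    have hzero : AModX.res (cokernel Φ) ((h21.trans inf_le_left).trans iV) w = 0 := by
      have h5 : AModX.res (cokernel Φ) (h21.trans inf_le_left) (AModX.res (cokernel Φ) iV w) = 0 := by
        rw [show AModX.res (cokernel Φ) iV w = (cokernel.π Φ).app V c from hc.symm, ← AModX.app_res, ← key]
        exact QCoh.cokernel_π_app_app _
      rwa [AModX.res_res] at h5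
    rw [← (cokernel Φ).presheaf.germ_res_apply (homOfLE ((h21.trans inf_le_left).trans iV)) η' hV₂ w]
    exact (congrArg _ hzero).trans (map_zero _)
  have hMc : Coh.IsCoh M := CurveDeg.isCoh_of_isInvertible hM
  have hE : Coh.IsCoh E := S0019.result h M hMc
  have hOO := KZ.isCoh_biprod (QCoh.isCoh_structureModule' (X := B.left)) (QCoh.isCoh_structureModule' (X := B.left))
  haveI : Subsingleton (Coh.HH B.left (cokernel Φ) 1) :=
    S0047.result B.left _ (QCoh.isCoh_cokernel hOO.1 hE Φ) hsupp 1 one_pos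
  have hS : (ShortComplex.mk Φ (cokernel.π Φ) (cokernel.condition Φ)).ShortExact :=
    { exact := ShortComplex.exact_of_g_is_cokernel _ (cokernelIsCokernel Φ) }
  have hOO1 := subsingleton_hh_biprod (k := k) (Coh.structureModule B.left) (Coh.structureModule B.left) 1 hB1 hB1
  haveI : Subsingleton (Coh.HH B.left E 1) := subsingleton_of_forall_eq 0 fun x => by
    obtain ⟨z, hz⟩ := (CurveCohLib.ker_mapLin_g (A := k) hS 1).le (LinearMap.mem_ker.2
      (Subsingleton.elim (mapLin k (ShortComplex.mk Φ (cokernel.π Φ) (cokernel.condition Φ)).g 1 x) 0))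
    rw [← hz, hOO1.elim z 0, map_zero]
  obtain ⟨eP⟩ := PnCoh.exists_linearEquiv_push (X := A.left) (P := B.left) k h
    (show h ≫ B.hom = A.hom from Over.w φ) hMc.1 1
  exact h1 eP.injective.subsingleton

end Groth.Agent.HypCurve
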