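import Groth.Agent.HypCurve.TwistedH1
import Groth.Agent.HypCurve.NotDouble
import Groth.Agent.HypCurve.CoordMap
import Groth.Agent.CurveBC.Geometry

/-!
# A smooth plane curve of degree at least four is not a double cover of a curve without `H¹(O)`
-/

set_option autoImplicit false
set_option linter.style.haveILetI false
set_option linter.unusedSectionVars false
set_option backward.isDefEq.respectTransparency false
set_option backward.isDefEq.respectTransparency.types false
set_option synthInstance.maxHeartbeats 100000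

universe u

open CategoryTheory CategoryTheory.Limits AlgebraicGeometry TopologicalSpace Opposite

noncomputable section

namespace Groth.Agent.HypCurve

open Groth.Agent Groth.Agent.InvX Groth.Agent.H23 Groth.Agent.CurveCohLib.Polar

variable {k : Type u} [Field k]

theorem cK_mem_range {A B : Over (Spec (CommRingCat.of k))} [IsIntegral A.left] [IsIntegral B.left]
    (φ : A ⟶ B) [IsFinite φ.left] [Surjective φ.left] (c : k) :
    (letI : A.left.Over (Spec (CommRingCat.of k)) := ⟨A.hom⟩; cK (X := A.left) k c) ∈ (AVDegLib.ffMap φ).range := by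
  exact ⟨_, AVDegLib.ffMap_algebraMap φ c⟩

theorem plane_curve_proper {d : ℕ} (f : LefPen.Form 2 k d) :
    IsProper ((LefPen.hypIdeal f).subschemeι ≫ CohB1.ProjSpace.toSpec 2 k) := by
  haveI : IsProper (CohB1.ProjSpace.toSpec 2 k) := PnCoh.Chow.isProper_toSpec 2 k
  infer_instance

theorem isIntegral_planeCurve {d : ℕ} (hd : 1 ≤ d) {f : LefPen.Form 2 k d} (hf : f ≠ 0)
    [inst : ((LefPen.hypIdeal f).subscheme).Over (Spec (CommRingCat.of k))]
    (hinst : (LefPen.hypIdeal f).subscheme ↘ (Spec (CommRingCat.of k)) = (LefPen.hypIdeal f).subschemeι ≫ CohB1.ProjSpace.toSpec 2 k)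
    [Smooth ((LefPen.hypIdeal f).subscheme ↘ (Spec (CommRingCat.of k)))] :
    IsIntegral (LefPen.hypIdeal f).subscheme := by
  haveI : IsProper ((LefPen.hypIdeal f).subscheme ↘ (Spec (CommRingCat.of k))) := by
    rw [hinst]; exact plane_curve_proper f
  exact CurveBC.isIntegral_of_h0 k _ (finrank_planeCurve d hd hf hinst).1

theorem surjective_of_finrank {X Y : Scheme.{u}} (h : X ⟶ Y) [IsFinite h] [Flat h] [IsLocallyNoetherian Y]
    (hrk : ∀ y, Scheme.Hom.finrank h y = 2) : Surjective h :=
  (Scheme.Hom.one_le_finrank_iff_surjective h).1 fun y => by simp [hrk y]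

theorem no_double_cover {d : ℕ} (hd : 4 ≤ d) {f : LefPen.Form 2 k d} (hf : f ≠ 0)
    [inst : ((LefPen.hypIdeal f).subscheme).Over (Spec (CommRingCat.of k))]
    (hinst : (LefPen.hypIdeal f).subscheme ↘ (Spec (CommRingCat.of k)) = (LefPen.hypIdeal f).subschemeι ≫ CohB1.ProjSpace.toSpec 2 k)
    [Smooth ((LefPen.hypIdeal f).subscheme ↘ (Spec (CommRingCat.of k)))]
    (P : Scheme.{u}) [P.Over (Spec (CommRingCat.of k))] [IsProper (P ↘ (Spec (CommRingCat.of k)))] [IsIntegral P]
    (hP : topologicalKrullDim P = 1) (hP1 : Subsingleton (Coh.HH P (Coh.structureModule P) 1))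
    (h : (LefPen.hypIdeal f).subscheme ⟶ P)
    (hover : h ≫ (P ↘ (Spec (CommRingCat.of k))) = (LefPen.hypIdeal f).subscheme ↘ (Spec (CommRingCat.of k)))
    [IsFinite h] [Flat h] (hrk : ∀ y : P, Scheme.Hom.finrank h y = 2) : False := by
  classical
  let C := (LefPen.hypIdeal f).subscheme
  let ι := (LefPen.hypIdeal f).subschemeι
  haveI hC : IsIntegral C := isIntegral_planeCurve (by omega) hf hinst
  haveI := CurveCohLib.isNoetherian_of_proper (k := k) (X := P)
  let A : Over (Spec (CommRingCat.of k)) := Over.mk (C ↘ Spec (CommRingCat.of k))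
  let B : Over (Spec (CommRingCat.of k)) := Over.mk (P ↘ Spec (CommRingCat.of k))
  let φ : A ⟶ B := Over.homMk h hover
  haveI : IsIntegral A.left := hC
  haveI : IsIntegral B.left := inferInstanceAs (IsIntegral P)
  haveI : IsFinite φ.left := inferInstanceAs (IsFinite h)
  haveI : Flat φ.left := inferInstanceAs (Flat h)
  haveI : Surjective φ.left := surjective_of_finrank h hrk
  haveI : IsProper B.hom := inferInstanceAs (IsProper (P ↘ Spec (CommRingCat.of k)))
  let R := (AVDegLib.ffMap φ).range
  -- the coordinates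
  let O1 := Twist.twistProjSpace 2 k 1
  let M := (Scheme.Modules.pullback ι).obj O1
  have hM : PicF.IsInvertible M := PicClLib.isInvertible_pullback ι (isInvertible_twist 2 1)
  let s : Fin 3 → Γ(M, ⊤) := fun j => ProjUP.pullSec ι O1 (ProjUP.coord 2 k j)
  obtain ⟨i, hi⟩ : ∃ i, ι (genericPoint C) ∈ LefPen.chart 2 k i := by
    have : ι (genericPoint C) ∈ ⨆ i, LefPen.chart 2 k i := by rw [iSup_chart]; trivial
    exact Opens.mem_iSup.1 this
  let U : C.Opens := ι ⁻¹ᵁ LefPen.chart 2 k i
  have hU : genericPoint C ∈ U := hi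
  have hfr : IsFrame (AModX.res M (le_top : U ≤ ⊤) (s i)) :=
    TrivBasic.isFrame_res_of_le_locus (AmpleEmbed.preimage_chart ι (Iso.refl M) i (s := s i) rfl).le
  have hco : ∀ j, ∃ b : Γ(C, U), AModX.res M (le_top : U ≤ ⊤) (s j) = b • AModX.res M (le_top : U ≤ ⊤) (s i) := fun j => by
    obtain ⟨b, hb⟩ := hfr.exists_coord le_rfl (AModX.res M le_top (s j))
    rw [AModX.res_self] at hb
    exact ⟨b, hb⟩
  choose b hb using hco
  have hv : ∀ j, gη hU (b j) ∈ R := fun j =>
    ratio_mem_range φ hrk hP1 hP hM (not_subsingleton_h1_twist hd hf hinst) hU (s i) (s j) hfr (b j) (hb j)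
  -- all functions on the chart come from the base
  have hsect : ∀ a : Γ(C, U), gη hU a ∈ R := fun a => by
    obtain ⟨g, rfl⟩ := (LefPen.hypIdeal f).subschemeι_app_surjective ⟨_, isAffineOpen_chart (r := 2) (k := k) i⟩ a
    obtain ⟨m, F, rfl⟩ := exists_form_dehom i g
    show chartFun ι i hU (LefPen.dehom F i) ∈ R
    rw [chartFun_dehom_form (r := ι) hinst.symm (Iso.refl M) (s := s) (fun _ => rfl) i hU (fun j => gη hU (b j))
      (fun j b' hb' => congrArg (gη hU) (hfr.coord_unique le_rfl (by
        rw [AModX.res_self, ← hb', hb j]))) F]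
    induction F.1 using MvPolynomial.induction_on with
    | C c => rw [MvPolynomial.eval₂Hom_C]; exact cK_mem_range φ c
    | add p q hp hq => rw [map_add]; exact R.add_mem hp hq
    | mul_X p j hp => rw [map_mul, MvPolynomial.eval₂Hom_X']; exact R.mul_mem hp (hv j)
  -- so the function fields agree
  haveI : Nonempty U := ⟨⟨genericPoint C, hU⟩⟩
  haveI : IsFractionRing Γ(C, U) C.functionField :=
    functionField_isFractionRing_of_isAffineOpen C U ((isAffineOpen_chart (r := 2) (k := k) i).preimage ι)
  letI := AVDegLib.ffExt φ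
  have hle : Module.finrank B.left.functionField A.left.functionField ≤ 1 := by
    refine finrank_le_one (1 : A.left.functionField) fun w => ?_
    obtain ⟨p, q, -, hw⟩ := IsFractionRing.div_surjective Γ(C, U) (show C.functionField from w)
    obtain ⟨x, hx⟩ := hsect p
    obtain ⟨y, hy⟩ := hsect q
    refine ⟨x / y, ?_⟩
    rw [Algebra.smul_def, mul_one]
    refine (map_div₀ (AVDegLib.ffMap φ) x y).trans ?_
    rw [hx, hy]
    exact hw
  haveI : LocallyOfFinitePresentation φ.left := by
    haveI : IsLocallyNoetherian B.left := inferInstanceAs (IsLocallyNoetherian P)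
    infer_instance
  have := (AVDegLib.finrank_eq φ (genericPoint B.left)).symm.trans (hrk (genericPoint B.left))
  omega

end Groth.Agent.HypCurve
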