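import Groth.Agent.HypCurve.Scale
import Groth.Agent.HypCurve.NotHyper
import Groth.Agent.HypCurve.CoordMap
import Groth.Agent.Lib.SmoothCurveFam
import Groth.Agent.H23.TopDim
import Groth.Agent.H23.PnChart
import Groth.Agent.S10829
import Groth.Agent.S0458
import Groth.Prelude.Def_ModFun

/-!
# Smooth plane cubics as curves of genus one, and their rational points
-/

set_option autoImplicit false
set_option linter.style.haveILetI false
set_option linter.unusedSectionVars false
set_option backward.isDefEq.respectTransparency false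
set_option backward.isDefEq.respectTransparency.types false

universe u

open CategoryTheory CategoryTheory.Limits AlgebraicGeometry TopologicalSpace Opposite MvPolynomial

noncomputable section

namespace Groth.Agent.HypCurve

open Groth.Agent

variable {K : Type u} [Field K] {G : LefPen.Form 2 K 3}

/-- The structure map of a plane cubic. -/
abbrev pStr (G : LefPen.Form 2 K 3) : (LefPen.hypIdeal G).subscheme ⟶ Spec (CommRingCat.of K) :=
  (LefPen.hypIdeal G).subschemeι ≫ CohB1.ProjSpace.toSpec 2 K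

theorem plane_cubic_facts (hG : G ≠ 0) (hs : Smooth (pStr G)) :
    letI : (LefPen.hypIdeal G).subscheme.Over (Spec (CommRingCat.of K)) := ⟨pStr G⟩
    IsProper (pStr G) ∧ IsIntegral (LefPen.hypIdeal G).subscheme ∧
      GeometricallyIntegral (pStr G) ∧ topologicalKrullDim ↥(LefPen.hypIdeal G).subscheme = 1 ∧
      Module.finrank K (Coh.HH (LefPen.hypIdeal G).subscheme
        (Coh.structureModule (LefPen.hypIdeal G).subscheme) 1) = 1 := by
  letI : (LefPen.hypIdeal G).subscheme.Over (Spec (CommRingCat.of K)) := ⟨pStr G⟩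
  haveI hp : IsProper (pStr G) := plane_curve_proper G
  haveI : IsProper ((LefPen.hypIdeal G).subscheme ↘ Spec (CommRingCat.of K)) := hp
  haveI : Smooth ((LefPen.hypIdeal G).subscheme ↘ Spec (CommRingCat.of K)) := hs
  obtain ⟨h0, h1⟩ := finrank_planeCurve (k := K) 3 (by norm_num) hG rfl
  haveI := CurveBC.isIntegral_of_h0 K _ h0
  have hgi := SmoothCurveFam.geometricallyIntegral K (LefPen.hypIdeal G).subscheme h0
  refine ⟨hp, inferInstance, hgi, ?_, by simpa using h1⟩
  haveI : IsIntegral (CohB1.ProjSpace 2 K) := H23.PnChart.isIntegral_projSpace 2 K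
  have hP : topologicalKrullDim ↥(CohB1.ProjSpace 2 K) = (2 : ℕ) := S10829.result K 2
  let ι := (LefPen.hypIdeal G).subschemeι
  have hne : Set.range ι ≠ Set.univ := by
    intro h
    haveI : Surjective ι := ⟨Set.range_eq_univ.1 h⟩
    have hker : ι.ker = ⊥ := by
      haveI : IsIso ι := isIso_of_isClosedImmersion_of_surjective ι
      exact Scheme.Hom.ker_eq_bot_of_isIso _
    rw [Scheme.IdealSheafData.ker_subschemeι] at hker
    have h2 := congrArg (fun I : (CohB1.ProjSpace 2 K).IdealSheafData => I.ideal (achart 2 K 0)) hker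
    simp only [hypIdeal_chart, Scheme.IdealSheafData.ideal_bot, Pi.bot_apply, Ideal.span_singleton_eq_bot] at h2
    rw [← chartRingEquiv_dh, map_eq_zero_iff _ (chartRingEquiv (k := K) (0 : Fin (2 + 1))).injective] at h2
    exact dh_ne_zero hG 0 h2
  have hlt := H23.TopDim.dim_lt_of_ssubset (X := ↥(CohB1.ProjSpace 2 K)) (by rw [hP]; exact ENat.coe_ne_top 2 ∘ WithBot.coe_injective.eq_iff.1)
    ι.isClosedEmbedding.isClosed_range hne
  rw [← IsHomeomorph.topologicalKrullDim_eq _ ι.isClosedEmbedding.isEmbedding.toHomeomorph.isHomeomorph, hP] at hlt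
  haveI : CompactSpace ↥(LefPen.hypIdeal G).subscheme := QuasiCompact.compactSpace_of_compactSpace (pStr G)
  haveI : IsLocallyNoetherian (LefPen.hypIdeal G).subscheme := LocallyOfFiniteType.isLocallyNoetherian (pStr G)
  haveI : IsNoetherian (LefPen.hypIdeal G).subscheme := ⟨⟩
  refine le_antisymm ?_ ?_
  · obtain h | ⟨n, hn⟩ : topologicalKrullDim ↥(LefPen.hypIdeal G).subscheme = ⊥ ∨
        ∃ n : ℕ, topologicalKrullDim ↥(LefPen.hypIdeal G).subscheme = n := by
      rcases eq_or_ne (topologicalKrullDim ↥(LefPen.hypIdeal G).subscheme) ⊥ with h | h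
      · exact Or.inl h
      · obtain ⟨a, ha⟩ := WithBot.ne_bot_iff_exists.1 h
        rw [← ha] at hlt ⊢
        have : a ≠ ⊤ := ne_top_of_lt (WithBot.coe_lt_coe.1 hlt)
        obtain ⟨n, rfl⟩ := WithTop.ne_top_iff_exists.1 this
        exact Or.inr ⟨n, rfl⟩
    · rw [h]; exact bot_le
    · rw [hn] at hlt ⊢
      exact_mod_cast Nat.lt_succ_iff.1 (show n < 2 by exact_mod_cast hlt)
  · by_contra hlt'
    have hd : topologicalKrullDim ↥(LefPen.hypIdeal G).subscheme ≤ (0 : ℕ) := by
      rcases eq_or_ne (topologicalKrullDim ↥(LefPen.hypIdeal G).subscheme) ⊥ with h | h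
      · rw [h]; exact bot_le
      · obtain ⟨a, ha⟩ := WithBot.ne_bot_iff_exists.1 h
        rw [← ha] at hlt' ⊢
        have h3 : a < 1 := WithBot.coe_lt_coe.1 (not_le.1 hlt')
        exact WithBot.coe_le_coe.2 (ENat.lt_one_iff_eq_zero.1 h3).le
    haveI := S0458.result (X := (LefPen.hypIdeal G).subscheme.toPresheafedSpace.carrier) 0 hd
      (Coh.toAb (Coh.structureModule (LefPen.hypIdeal G).subscheme)) 1 Nat.one_pos
    have h4 : Module.finrank K (Coh.HH (LefPen.hypIdeal G).subscheme
        (Coh.structureModule (LefPen.hypIdeal G).subscheme) 1) = 0 := Module.finrank_zero_of_subsingleton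
    rw [h4] at h1
    simp at h1

/-- A smooth plane cubic is a curve of genus one. -/
theorem isCurveOfGenus_pStr (hG : G ≠ 0) (hs : Smooth (pStr G)) : ModFun.IsCurveOfGenus 1 (pStr G) := by
  obtain ⟨hp, -, hgi, -, h1⟩ := plane_cubic_facts hG hs
  haveI := hgi
  refine ⟨hs, hp, inferInstance, fun Ω _ _ t X i q hpb => ?_⟩
  obtain ⟨φ, rfl⟩ := Spec.map_surjective t
  letI : Algebra K Ω := φ.hom.toAlgebra
  obtain ⟨j, hj⟩ := Scale.exists_isPullback K Ω (fun _ => 1) G (G' := Scale.form K Ω (fun _ => 1) G) rfl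
  have hG' : Scale.form K Ω (fun _ : Fin (2 + 1) => (1 : Ωˣ)) G ≠ 0 := fun h => hG (Subtype.ext (by
    have h2 : Scale.subst K Ω (fun _ : Fin (2 + 1) => (1 : Ωˣ)) G.1 = 0 := congrArg Subtype.val h
    have h3 : Scale.subst K Ω (fun _ : Fin (2 + 1) => (1 : Ωˣ)) = MvPolynomial.map (algebraMap K Ω) :=
      MvPolynomial.ringHom_ext (fun a => by simp [Scale.subst]) fun i => by simp [Scale.subst]
    rw [h3, ← map_zero (MvPolynomial.map (algebraMap K Ω))] at h2
    exact MvPolynomial.map_injective _ (algebraMap K Ω).injective h2))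
  have hs' : Smooth (pStr (Scale.form K Ω (fun _ : Fin (2 + 1) => (1 : Ωˣ)) G)) :=
    MorphismProperty.of_isPullback hj hs
  obtain ⟨-, -, -, hd', h1'⟩ := plane_cubic_facts hG' hs'
  let e := IsPullback.isoIsPullback _ _ hpb hj
  refine ⟨(IsHomeomorph.topologicalKrullDim_eq _ e.hom.homeomorph.isHomeomorph).trans hd', ?_⟩
  letI : (LefPen.hypIdeal G).subscheme.Over (Spec (CommRingCat.of K)) := ⟨pStr G⟩
  letI : X.Over (Spec (CommRingCat.of Ω)) := ⟨q⟩
  haveI : IsProper ((LefPen.hypIdeal G).subscheme ↘ Spec (CommRingCat.of K)) := hp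
  haveI := AmpleVan.compactSpace_of_proper (A := K) (X := (LefPen.hypIdeal G).subscheme)
  haveI := AmpleVan.isSeparated_of_proper (A := K) (X := (LefPen.hypIdeal G).subscheme)
  obtain ⟨l⟩ := QCoh.nonempty_HH_flat_bc (A := K) (B := Ω) i hpb
    (QCoh.isQCoh_structureModule (X := (LefPen.hypIdeal G).subscheme)) 1
  obtain ⟨s⟩ := PicClLib.nonempty_pullback_structureModule i
  show Module.finrank Ω (Coh.HH X (Coh.structureModule X) 1) = 1
  refine (QCoh.HHcongr (Coh.toGlobal (A := Ω) q) s 1).finrank_eq.symm.trans (Eq.trans ?_ h1)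
  haveI := Module.Free.of_divisionRing K
    (Coh.HH (LefPen.hypIdeal G).subscheme (Coh.structureModule (LefPen.hypIdeal G).subscheme) 1)
  exact l.finrank_eq.trans Module.finrank_baseChange

theorem app_eq_zero_of_mem {d r : ℕ} (H : LefPen.Form r K d) (i : Fin (r + 1)) :
    (LefPen.hypIdeal H).subschemeι.app (LefPen.chart r K i) (LefPen.dehom H i) = 0 := by
  have h : LefPen.dehom H i ∈ (LefPen.hypIdeal H).subschemeι.ker.ideal (achart r K i) := by
    rw [Scheme.IdealSheafData.ker_subschemeι, hypIdeal_chart]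
    exact Ideal.subset_span rfl
  exact RingHom.mem_ker.1 (Scheme.IdealSheafData.ideal_ofIdeals_le _ _ h)

/-- A rational point has homogeneous coordinates. -/
theorem exists_coords {d r : ℕ} (H : LefPen.Form r K d)
    (s : Spec (CommRingCat.of K) ⟶ (LefPen.hypIdeal H).subscheme)
    (hs : s ≫ (LefPen.hypIdeal H).subschemeι ≫ CohB1.ProjSpace.toSpec r K = 𝟙 _) :
    ∃ (i : Fin (r + 1)) (v : Fin (r + 1) → K), v i = 1 ∧ MvPolynomial.eval v H.1 = 0 := by
  let p := s ≫ (LefPen.hypIdeal H).subschemeι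
  have hx : p (IsLocalRing.closedPoint K) ∈ (⊤ : (CohB1.ProjSpace r K).Opens) := trivial
  rw [← iSup_chart r K, Opens.mem_iSup] at hx
  obtain ⟨i, hi⟩ := hx
  haveI : Subsingleton ↥(Spec (CommRingCat.of K)) := inferInstanceAs (Subsingleton (PrimeSpectrum K))
  have htop : (⊤ : (Spec (CommRingCat.of K)).Opens) ≤ p ⁻¹ᵁ LefPen.chart r K i := fun y _ => by
    rw [Subsingleton.elim y (IsLocalRing.closedPoint K)]; exact hi
  let ψ : Γ(CohB1.ProjSpace r K, LefPen.chart r K i) →+* K :=
    (Scheme.ΓSpecIso (CommRingCat.of K)).hom.hom.comp (p.appLE (LefPen.chart r K i) ⊤ htop).hom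
  let χ := ψ.comp (Proj.awayToSection (CohB1.polyGrading r K) (X i)).hom
  have hbase : χ.comp (ZetaLib.base r K i) = RingHom.id K := RingHom.ext fun a => by
    show ψ ((Proj.awayToSection (CohB1.polyGrading r K) (X i)).hom (ZetaLib.base r K i a)) = a
    rw [← CurveVA.toSpec_appLE_chart r K i a]
    refine Eq.trans (congrArg (Scheme.ΓSpecIso (CommRingCat.of K)).hom ?_)
      ((Scheme.ΓSpecIso (CommRingCat.of K)).inv_hom_id_apply a)
    show (p.appLE (LefPen.chart r K i) ⊤ htop).hom ((Scheme.Hom.appLE (CohB1.ProjSpace.toSpec r K) ⊤ (LefPen.chart r K i) le_top).hom _) = _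
    rw [← CommRingCat.comp_apply, Scheme.Hom.appLE_comp_appLE]
    have hp : p ≫ CohB1.ProjSpace.toSpec r K = 𝟙 _ := by rw [← hs]; exact Category.assoc _ _ _
    simp only [hp]
    simp [Scheme.Hom.appLE]
  refine ⟨i, fun j => χ (ZetaLib.coord r K i j), ?_, ?_⟩
  · show χ (ZetaLib.coord r K i i) = 1
    rw [show ZetaLib.coord r K i i = 1 from HomogeneousLocalization.val_injective _ (by
      simp [ZetaLib.coord, Localization.mk_self])]
    exact map_one χ
  · have h : χ.comp (ZetaLib.dehom r K i) = eval fun j => χ (ZetaLib.coord r K i j) := by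
      refine MvPolynomial.ringHom_ext (fun a => ?_) fun j => ?_
      · simp only [RingHom.comp_apply, ZetaLib.dehom, eval₂Hom_C, eval_C]
        exact RingHom.congr_fun hbase a
      · simp [ZetaLib.dehom]
    rw [← RingHom.congr_fun h H.1]
    show ψ ((Proj.awayToSection (CohB1.polyGrading r K) (X i)).hom (ZetaLib.dehom r K i H.1)) = 0
    rw [← dehom_eq]
    show (Scheme.ΓSpecIso (CommRingCat.of K)).hom ((p.appLE (LefPen.chart r K i) ⊤ htop).hom _) = 0
    have e : p.appLE (LefPen.chart r K i) ⊤ htop = (LefPen.hypIdeal H).subschemeι.app (LefPen.chart r K i) ≫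
        s.appLE _ ⊤ htop := by rw [Scheme.Hom.comp_appLE]
    rw [e, CommRingCat.comp_apply, app_eq_zero_of_mem, map_zero, map_zero]

end Groth.Agent.HypCurve
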