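import Groth.Agent.HypCurve.IdealChart
import Groth.Agent.H23.PnChart
import Groth.Agent.HypSmoothLib.Affine
import Mathlib.AlgebraicGeometry.Morphisms.Smooth
import Mathlib.RingTheory.MvPolynomial.EulerIdentity

/-!
# The Jacobian criterion for a hypersurface in projective space
-/

set_option autoImplicit false
set_option linter.style.haveILetI false
set_option linter.unusedSectionVars false
set_option backward.isDefEq.respectTransparency false
set_option backward.isDefEq.respectTransparency.types false

universe u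

open CategoryTheory CategoryTheory.Limits AlgebraicGeometry TopologicalSpace MvPolynomial
open HomogeneousLocalization (Away)

noncomputable section

namespace Groth.Agent.HypCurve

open Groth.Agent.H23.PnChart (Idx dh fromChart fromChart_injective fromChart_surjective coord_self)

variable {r : ℕ} {k : Type u} [Field k]

theorem fromChart_dh (i : Fin (r + 1)) (P : MvPolynomial (Fin (r + 1)) k) :
    fromChart r k i (dh r k i P) = ZetaLib.dehom r k i P := by
  have h : (fromChart r k i).comp (dh r k i) = ZetaLib.dehom r k i := by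
    apply MvPolynomial.ringHom_ext
    · intro c
      simp [fromChart, dh, ZetaLib.dehom]
    · intro j
      by_cases hj : j = i
      · subst hj; simp [fromChart, dh, ZetaLib.dehom, coord_self]
      · simp [fromChart, dh, ZetaLib.dehom, hj]
  exact congr($h P)

theorem dh_C (i : Fin (r + 1)) (c : k) : dh r k i (C c) = C c := by simp [dh]

theorem dh_X (i j : Fin (r + 1)) :
    dh r k i (X j) = if h : j = i then 1 else X (ULift.up ⟨j, h⟩) := by simp [dh]

theorem pderiv_dh (i : Fin (r + 1)) (j : Idx.{u} r i) (P : MvPolynomial (Fin (r + 1)) k) :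
    pderiv j (dh r k i P) = dh r k i (pderiv j.down.1 P) := by
  induction P using MvPolynomial.induction_on with
  | C a => simp [dh_C]
  | add p q hp hq => simp [hp, hq]
  | mul_X p l hp =>
    rw [map_mul, Derivation.leibniz, Derivation.leibniz, map_add]
    simp only [smul_eq_mul, map_mul, hp]
    congr 1
    rw [dh_X]
    by_cases hl : l = i
    · rw [dif_pos hl, pderiv_one, mul_zero]
      have hne : l ≠ j.down.1 := fun e => j.down.2 (e ▸ hl)
      rw [pderiv_X_of_ne hne, map_zero, mul_zero]
    · rw [dif_neg hl]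
      by_cases hlj : l = j.down.1
      · have e : (ULift.up ⟨l, hl⟩ : Idx.{u} r i) = j := ULift.ext _ _ (Subtype.ext hlj)
        rw [e, pderiv_X_self, hlj, pderiv_X_self, map_one]
      · have e : (ULift.up ⟨l, hl⟩ : Idx.{u} r i) ≠ j := fun h => hlj (congrArg (fun t => t.down.1) h)
        rw [pderiv_X_of_ne e, pderiv_X_of_ne hlj, map_zero]

theorem aeval_dh {A : Type*} [CommRing A] [Algebra k A] (i : Fin (r + 1)) (v : Fin (r + 1) → A) (hv : v i = 1)
    (P : MvPolynomial (Fin (r + 1)) k) :
    aeval (fun j : Idx.{u} r i => v j.down.1) (dh r k i P) = aeval v P := by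
  induction P using MvPolynomial.induction_on with
  | C a => simp [dh_C]
  | add p q hp hq => simp [hp, hq]
  | mul_X p l hp =>
    rw [map_mul, map_mul, map_mul, hp, dh_X]
    by_cases hl : l = i
    · subst hl
      simp [hv]
    · simp [hl]

theorem dh_ne_zero {d : ℕ} {G : LefPen.Form r k d} (hG : G ≠ 0) (i : Fin (r + 1)) :
    dh r k i G.1 ≠ 0 := by
  intro h
  have h1 := ZetaLib.val_dehom_mul r k i (G.2 : G.1.IsHomogeneous d)
  rw [← fromChart_dh, h, map_zero, HomogeneousLocalization.val_zero, zero_mul] at h1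
  have hinj : Function.Injective (algebraMap (MvPolynomial (Fin (r + 1)) k)
      (Localization (Submonoid.powers (X i : MvPolynomial (Fin (r + 1)) k)))) :=
    IsLocalization.injective _ (powers_le_nonZeroDivisors_of_noZeroDivisors (MvPolynomial.X_ne_zero i))
  exact hG (Subtype.ext (hinj (h1.symm.trans (map_zero _).symm)))

/-- Functions on a chart as polynomials. -/
def chartRingEquiv (i : Fin (r + 1)) :
    MvPolynomial (Idx.{u} r i) k ≃+* Γ(CohB1.ProjSpace r k, LefPen.chart r k i) :=
  (RingEquiv.ofBijective (fromChart r k i) ⟨fromChart_injective r k i, fromChart_surjective r k i⟩).trans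
    (Proj.basicOpenIsoAway (CohB1.polyGrading r k) (X i) (ZetaLib.X_mem_one r k i)
      Nat.one_pos).commRingCatIsoToRingEquiv

theorem chartRingEquiv_apply (i : Fin (r + 1)) (P : MvPolynomial (Idx.{u} r i) k) :
    chartRingEquiv i P = (Proj.awayToSection (CohB1.polyGrading r k) (X i)).hom (fromChart r k i P) := rfl

theorem chartRingEquiv_dh {d : ℕ} (G : LefPen.Form r k d) (i : Fin (r + 1)) :
    chartRingEquiv i (dh r k i G.1) = LefPen.dehom G i := by
  rw [chartRingEquiv_apply, fromChart_dh, dehom_eq]

theorem fromSpec_chart (i : Fin (r + 1)) :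
    (achart r k i).2.fromSpec =
      Spec.map (Proj.awayToSection (CohB1.polyGrading r k) (X i)) ≫ ZetaLib.chart r k i := by
  have e : (isAffineOpen_chart r k i).isoSpec.hom ≫ Spec.map (Proj.awayToSection (CohB1.polyGrading r k) (X i)) =
      (Proj.basicOpenIsoSpec (CohB1.polyGrading r k) (X i) (ZetaLib.X_mem_one r k i) Nat.one_pos).hom :=
    (Proj.basicOpenIsoSpec_hom ..).symm
  have e' : (isAffineOpen_chart r k i).isoSpec.inv = Spec.map (Proj.awayToSection (CohB1.polyGrading r k) (X i)) ≫
      (Proj.basicOpenIsoSpec (CohB1.polyGrading r k) (X i) (ZetaLib.X_mem_one r k i) Nat.one_pos).inv := by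
    refine (cancel_epi (isAffineOpen_chart r k i).isoSpec.hom).1 ?_
    rw [Iso.hom_inv_id, ← Category.assoc, e, Iso.hom_inv_id]

  show (isAffineOpen_chart r k i).isoSpec.inv ≫ (LefPen.chart r k i).ι = _
  rw [e', Category.assoc]
  rfl

theorem smooth_iff_chart {d : ℕ} (G : LefPen.Form r k d) :
    Smooth ((LefPen.hypIdeal G).subschemeι ≫ CohB1.ProjSpace.toSpec r k) ↔
      ∀ i, Algebra.Smooth k (MvPolynomial (Idx.{u} r i) k ⧸ Ideal.span {dh r k i G.1}) := by
  let I := LefPen.hypIdeal G
  let q := I.subschemeι ≫ CohB1.ProjSpace.toSpec r k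
  have hcov : ⨆ i, I.subschemeι ⁻¹ᵁ LefPen.chart r k i = ⊤ := by
    rw [← Scheme.Hom.preimage_iSup, iSup_chart, Scheme.Hom.preimage_top]
  have hpiece : ∀ i, Smooth ((I.subschemeι ⁻¹ᵁ LefPen.chart r k i).ι ≫ q) ↔
      Algebra.Smooth k (MvPolynomial (Idx.{u} r i) k ⧸ Ideal.span {dh r k i G.1}) := by
    intro i
    let c := I.subschemeCover.f (achart r k i)
    have hr : Set.range c = Set.range (I.subschemeι ⁻¹ᵁ LefPen.chart r k i).ι := by
      rw [Scheme.Opens.range_ι]
      exact congrArg (fun t : I.subscheme.Opens => (t : Set I.subscheme)) (I.opensRange_subschemeCover_map (achart r k i))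
    let ε := IsOpenImmersion.isoOfRangeEq c (I.subschemeι ⁻¹ᵁ LefPen.chart r k i).ι hr
    rw [← MorphismProperty.cancel_left_of_respectsIso @Smooth ε.hom, ← Category.assoc,
      IsOpenImmersion.isoOfRangeEq_hom_fac]
    let ψ : k →+* Γ(CohB1.ProjSpace r k, LefPen.chart r k i) ⧸ I.ideal (achart r k i) :=
      (Ideal.Quotient.mk _).comp ((Proj.awayToSection (CohB1.polyGrading r k) (X i)).hom.comp (ZetaLib.base r k i))
    have hc : c ≫ q = Spec.map (CommRingCat.ofHom ψ) := by
      show c ≫ I.subschemeι ≫ _ = _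
      rw [← Category.assoc, I.subschemeCover_map_subschemeι, Scheme.IdealSheafData.glueDataObjι_ι, fromSpec_chart,
        Category.assoc, Category.assoc, ZetaLib.chart_toSpec, ← Spec.map_comp, ← Spec.map_comp]
      rfl
    rw [hc, HasRingHomProperty.Spec_iff (P := @Smooth)]
    letI := ψ.toAlgebra
    have hJ : Ideal.map ((chartRingEquiv (k := k) i).toRingHom)
        (Ideal.span {dh r k i G.1}) = I.ideal (achart r k i) := by
      rw [Ideal.map_span, Set.image_singleton, hypIdeal_chart]
      exact congrArg (fun t => Ideal.span {t}) (chartRingEquiv_dh G i)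
    let E := Ideal.quotientEquiv (Ideal.span {dh r k i G.1}) (I.ideal (achart r k i)) (chartRingEquiv i) hJ.symm
    let Ea : (MvPolynomial (Idx.{u} r i) k ⧸ Ideal.span {dh r k i G.1}) ≃ₐ[k]
        (Γ(CohB1.ProjSpace r k, LefPen.chart r k i) ⧸ I.ideal (achart r k i)) :=
      AlgEquiv.ofRingEquiv (f := E) fun c => by
        show E (Ideal.Quotient.mk _ (C c)) = _
        rw [Ideal.quotientEquiv_mk]
        refine congrArg (Ideal.Quotient.mk (I.ideal (achart r k i))) ((chartRingEquiv_apply i (C c)).trans ?_)
        rw [fromChart, eval₂Hom_C]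
        rfl
    show RingHom.Smooth ψ ↔ _
    rw [show ψ = algebraMap k _ from rfl, RingHom.smooth_algebraMap]
    exact ⟨fun h => Algebra.Smooth.of_equiv Ea.symm, fun h => Algebra.Smooth.of_equiv Ea⟩
  constructor
  · intro h i
    exact (hpiece i).1 inferInstance
  · intro h
    exact (IsZariskiLocalAtSource.iff_of_iSup_eq_top (P := @Smooth) _ hcov).2 fun i => (hpiece i).2 (h i)

/-- The projective Jacobian criterion. -/
theorem smooth_iff_no_singular_point {d : ℕ} {G : LefPen.Form r k d} (hG : G ≠ 0) :
    Smooth ((LefPen.hypIdeal G).subschemeι ≫ CohB1.ProjSpace.toSpec r k) ↔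
      ∀ (i : Fin (r + 1)) (v : Fin (r + 1) → AlgebraicClosure k), v i = 1 → aeval v G.1 = 0 →
        ∃ j, aeval v (pderiv j G.1) ≠ 0 := by
  rw [smooth_iff_chart]
  refine forall_congr' fun i => ?_
  rw [HypSmoothLib.smooth_quotient_iff_no_singular_zero (dh_ne_zero hG i)]
  constructor
  · intro h v hv h0
    obtain ⟨j, hj⟩ := h (fun j => v j.down.1) (by rw [aeval_dh i v hv, h0])
    refine ⟨j.down.1, ?_⟩
    rw [pderiv_dh, aeval_dh i v hv] at hj
    exact hj
  · intro h x h0
    classical
    let v : Fin (r + 1) → AlgebraicClosure k := fun l => if hl : l = i then 1 else x (ULift.up ⟨l, hl⟩)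
    have hv : v i = 1 := by simp [v]
    have hx : x = fun j : Idx.{u} r i => v j.down.1 := funext fun j => by simp only [v]; rw [dif_neg j.down.2]
    rw [hx] at h0 ⊢
    rw [aeval_dh i v hv] at h0
    by_contra hc
    push Not at hc
    have hc' : ∀ l, l ≠ i → aeval v (pderiv l G.1) = 0 := fun l hl => by
      have := hc (ULift.up ⟨l, hl⟩)
      rwa [pderiv_dh, aeval_dh i v hv] at this
    obtain ⟨j, hj⟩ := h v hv h0
    have he := congrArg (aeval v) (IsHomogeneous.sum_X_mul_pderiv (G.2 : G.1.IsHomogeneous d))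
    rw [map_sum, map_nsmul, h0, smul_zero, Finset.sum_eq_single i (fun l _ hl => by rw [map_mul, hc' l hl, mul_zero])
      (fun h => absurd (Finset.mem_univ i) h), map_mul, aeval_X, hv, one_mul] at he
    by_cases hji : j = i
    · exact hj (hji ▸ he)
    · exact hj (hc' j hji)

end Groth.Agent.HypCurve
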