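import Groth.Agent.HypCurve.Ideal
import Groth.Agent.PnCoh.Finite.HomTwist

/-! The ideal of a hypersurface on the standard charts. -/

set_option autoImplicit false
set_option linter.style.haveILetI false
set_option backward.isDefEq.respectTransparency false
set_option backward.isDefEq.respectTransparency.types false

universe u

open CategoryTheory CategoryTheory.Limits AlgebraicGeometry TopologicalSpace Opposite
open Groth.Agent.PnCoh.Finite (ratio rr)

noncomputable section

namespace Groth.Agent.HypCurve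

open Groth.Agent Groth.Agent.ZetaLib

variable {r : ℕ} {k : Type u} [Field k]

theorem dehom_val {d : ℕ} (G : LefPen.Form r k d) (i : Fin (r + 1)) (x : LefPen.chart r k i) :
    ((LefPen.dehom G i).1 x).val = Localization.mk G.1 ⟨MvPolynomial.X i ^ d,
      Submonoid.pow_mem _ (show MvPolynomial.X i ∈ x.1.asHomogeneousIdeal.toIdeal.primeCompl from x.2) d⟩ := rfl

theorem res_dehom {d : ℕ} (G : LefPen.Form r k d) (i j : Fin (r + 1)) {V : (CohB1.ProjSpace r k).Opens}
    (hi : V ≤ LefPen.chart r k i) (hj : V ≤ LefPen.chart r k j) :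
    AModX.resR hi (LefPen.dehom G i) =
      (show Γ(CohB1.ProjSpace r k, V) from rr (LefPen.X_mem r k i) (LefPen.X_mem r k j) hi) ^ d * AModX.resR hj (LefPen.dehom G j) := by
  refine Subtype.ext (funext fun x => HomogeneousLocalization.val_injective _ ?_)
  show ((LefPen.dehom G i).1 ⟨x.1, hi x.2⟩).val =
    ((rr (LefPen.X_mem r k i) (LefPen.X_mem r k j) hi).1 x ^ d * (LefPen.dehom G j).1 ⟨x.1, hj x.2⟩).val
  rw [HomogeneousLocalization.val_mul, HomogeneousLocalization.val_pow, PnCoh.Finite.rr_val, dehom_val,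
    dehom_val, Localization.mk_pow, Localization.mk_mul, Localization.mk_eq_mk_iff, Localization.r_iff_exists]
  exact ⟨1, by simp; ring⟩

/-- The closed subscheme cut out on one chart, as an ideal sheaf of the whole space. -/
def chartComp {d : ℕ} (G : LefPen.Form r k d) (i : Fin (r + 1)) : (CohB1.ProjSpace r k).IdealSheafData :=
  (Scheme.IdealSheafData.ofIdealTop (X := (LefPen.chart r k i : Scheme))
    (Ideal.span {(LefPen.chart r k i).topIso.inv (LefPen.dehom G i)})).map (LefPen.chart r k i).ι

theorem isAffineHom_chart (i : Fin (r + 1)) : IsAffineHom (LefPen.chart r k i).ι := by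
  haveI := isSeparated_projSpace r k
  refine ⟨fun U hU => ?_⟩
  rw [← Scheme.Hom.isAffineOpen_iff_of_isOpenImmersion (LefPen.chart r k i).ι,
    Scheme.Hom.image_preimage_eq_opensRange_inf, Scheme.Opens.opensRange_ι]
  exact (isAffineOpen_chart r k i).inf hU

theorem chartComp_ideal {d : ℕ} (G : LefPen.Form r k d) (i : Fin (r + 1)) (U : (CohB1.ProjSpace r k).affineOpens) :
    (chartComp G i).ideal U = Ideal.comap
      ((LefPen.chart r k i).ι.app U).hom
      (Ideal.span {AModX.resR (Set.image_subset_iff.2 fun x _ => x.2 :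
        (LefPen.chart r k i).ι ''ᵁ ((LefPen.chart r k i).ι ⁻¹ᵁ U) ≤ LefPen.chart r k i) (LefPen.dehom G i)}) := by
  haveI := isAffineHom_chart (r := r) (k := k) i
  rw [chartComp, Scheme.IdealSheafData.ideal_map_of_isAffineHom]
  refine congrArg _ ?_
  show Ideal.map _ (Ideal.span _) = _
  rw [Ideal.map_span, Set.image_singleton]
  refine congrArg (fun a => Ideal.span {a}) ?_
  show ((CohB1.ProjSpace r k).presheaf.map _ ≫ (CohB1.ProjSpace r k).presheaf.map _).hom (LefPen.dehom G i) = _
  rw [← Functor.map_comp]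
  rfl

theorem hypIdeal_chart {d : ℕ} (G : LefPen.Form r k d) (i : Fin (r + 1)) :
    (LefPen.hypIdeal G).ideal (achart r k i) = Ideal.span {LefPen.dehom G i} := by
  suffices h : ∀ i, (⨅ j, chartComp G j).ideal (achart r k i) = Ideal.span {LefPen.dehom G i} by
    rw [← eq_hypIdeal G _ h]; exact h i
  intro i
  rw [Scheme.IdealSheafData.ideal_iInf, iInf_apply]
  refine le_antisymm (fun f hf => ?_) ?_
  · have h1 := Ideal.mem_comap.1 (chartComp_ideal G i (achart r k i) ▸ (Submodule.mem_iInf _).1 hf i)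
    let C := LefPen.chart r k i
    let P := CohB1.ProjSpace r k
    have hle : C ≤ C.ι ''ᵁ (C.ι ⁻¹ᵁ C) := fun x hx => ⟨⟨x, hx⟩, hx, rfl⟩
    let e : Γ(P, C.ι ''ᵁ (C.ι ⁻¹ᵁ C)) →+* Γ(P, C) := AModX.resR hle
    have h2 := Ideal.mem_map_of_mem e h1
    rw [Ideal.map_span, Set.image_singleton] at h2
    have k1 : e ((C.ι.app C).hom f) = f := by
      show (P.presheaf.map _ ≫ P.presheaf.map _).hom f = f
      rw [← Functor.map_comp]
      exact congr($(P.presheaf.map_id (op C)).hom f)
    have k2 : ∀ h, e (AModX.resR h (LefPen.dehom G i)) = LefPen.dehom G i := fun h => by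
      show (P.presheaf.map _ ≫ P.presheaf.map _).hom (LefPen.dehom G i) = _
      rw [← Functor.map_comp]
      exact congr($(P.presheaf.map_id (op C)).hom (LefPen.dehom G i))
    exact k1 ▸ k2 _ ▸ h2
  · refine le_iInf fun j => ?_
    rw [chartComp_ideal, ← Ideal.map_le_iff_le_comap, Ideal.map_span, Set.image_singleton, Ideal.span_le,
      Set.singleton_subset_iff]
    refine Ideal.mem_span_singleton'.2 ⟨(show Γ(CohB1.ProjSpace r k,
      (LefPen.chart r k j).ι ''ᵁ ((LefPen.chart r k j).ι ⁻¹ᵁ (achart r k i).1)) from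
        rr (LefPen.X_mem r k i) (LefPen.X_mem r k j)
          (fun _ ⟨y, hy, h⟩ => h ▸ hy :
            (LefPen.chart r k j).ι ''ᵁ ((LefPen.chart r k j).ι ⁻¹ᵁ (achart r k i).1) ≤ LefPen.chart r k i)) ^ d, ?_⟩
    exact (res_dehom G i j _ _).symm

end Groth.Agent.HypCurve
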