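import Groth.Prelude.Def_LefPen
import Groth.Agent.ZetaLib.ProjPoints
import Groth.Agent.PnCoh.Chow.Proper
import Groth.Agent.AmpleX.Proj
import Groth.Agent.SegreX.Coord
import Mathlib.AlgebraicGeometry.Morphisms.Separated

/-!
# The ideal sheaf of a hypersurface in projective space
-/

set_option autoImplicit false
set_option linter.style.haveILetI false
set_option backward.isDefEq.respectTransparency false
set_option backward.isDefEq.respectTransparency.types false

universe u

open CategoryTheory CategoryTheory.Limits AlgebraicGeometry TopologicalSpace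
open HomogeneousLocalization (Away)

noncomputable section

namespace Groth.Agent.HypCurve

open Groth.Agent Groth.Agent.ZetaLib

variable {r : ℕ} {k : Type u} [Field k]

variable (r k) in
theorem isAffineOpen_chart (i : Fin (r + 1)) : IsAffineOpen (LefPen.chart r k i) :=
  Proj.isAffineOpen_basicOpen _ _ (LefPen.X_mem r k i) one_pos

variable (r k) in
theorem iSup_chart : ⨆ i, LefPen.chart r k i = ⊤ :=
  Proj.iSup_basicOpen_eq_top _ _ (SegreX.irrelevant_le_span r k)

variable (r k) in
/-- A standard chart as an affine open. -/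
def achart (i : Fin (r + 1)) : (CohB1.ProjSpace r k).affineOpens := ⟨LefPen.chart r k i, isAffineOpen_chart r k i⟩

variable (r k) in
theorem isSeparated_projSpace : (CohB1.ProjSpace r k).IsSeparated := by
  haveI := PnCoh.Chow.isProper_toSpec r k
  exact ⟨by rw [← Limits.terminal.comp_from (CohB1.ProjSpace.toSpec r k)]; infer_instance⟩

/-- The chart function of a form is its dehomogenisation. -/
theorem dehom_eq {d : ℕ} (G : LefPen.Form r k d) (i : Fin (r + 1)) :
    LefPen.dehom G i =
      (Proj.awayToSection (CohB1.polyGrading r k) (MvPolynomial.X i)).hom (ZetaLib.dehom r k i G.1) := by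
  refine congrArg _ (HomogeneousLocalization.val_injective _ ?_)
  have hG : G.1.IsHomogeneous d := G.2
  have hu : IsUnit (algebraMap (MvPolynomial (Fin (r + 1)) k)
      (Localization (Submonoid.powers (MvPolynomial.X i : MvPolynomial (Fin (r + 1)) k))) (MvPolynomial.X i) ^ d) :=
    (IsLocalization.map_units _ (⟨MvPolynomial.X i, 1, pow_one _⟩ :
      Submonoid.powers (MvPolynomial.X i : MvPolynomial (Fin (r + 1)) k))).pow d
  refine hu.mul_left_injective ?_
  show _ * _ = _ * _
  rw [ZetaLib.val_dehom_mul r k i hG, HomogeneousLocalization.Away.val_mk,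
    ← map_pow, ← Localization.mk_one_eq_algebraMap, ← Localization.mk_one_eq_algebraMap,
    Localization.mk_mul, Localization.mk_eq_mk_iff, Localization.r_iff_exists]
  exact ⟨1, by simp [mul_comm]⟩

theorem hypIdeal_ideal_chart_le {d : ℕ} (G : LefPen.Form r k d) (i : Fin (r + 1)) :
    (LefPen.hypIdeal G).ideal (achart r k i) ≤ Ideal.span {LefPen.dehom G i} := by
  intro f hf
  have h : (LefPen.hypIdeal G).ideal (achart r k i) ≤ LefPen.hypFamily G (achart r k i) :=
    Scheme.IdealSheafData.ideal_ofIdeals_le _ _
  have h1 := Ideal.mem_comap.1 (Submodule.mem_iInf _ |>.1 (h hf) i)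
  let P := CohB1.ProjSpace r k
  let C := LefPen.chart r k i
  let e : Γ(P, C ⊓ C) →+* Γ(P, C) := (P.presheaf.map (homOfLE (le_inf le_rfl le_rfl : C ≤ C ⊓ C)).op).hom
  have h2 := Ideal.mem_map_of_mem e h1
  rw [Ideal.map_span, Set.image_singleton] at h2
  have key : ∀ (hle : C ⊓ C ≤ C) (g : Γ(P, C)), e ((P.presheaf.map (homOfLE hle).op).hom g) = g := by
    intro hle g
    show (P.presheaf.map _ ≫ P.presheaf.map _).hom g = g
    rw [← Functor.map_comp, show (homOfLE hle).op ≫ (homOfLE (le_inf le_rfl le_rfl : C ≤ C ⊓ C)).op = 𝟙 _ from rfl,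
      CategoryTheory.Functor.map_id]
    rfl
  exact (key inf_le_left f) ▸ (key inf_le_right (LefPen.dehom G i)) ▸ h2

/-- An ideal sheaf with the right chart ideals is the ideal of the hypersurface. -/
theorem eq_hypIdeal {d : ℕ} (G : LefPen.Form r k d) (J : (CohB1.ProjSpace r k).IdealSheafData)
    (hJ : ∀ i, J.ideal (achart r k i) = Ideal.span {LefPen.dehom G i}) : J = LefPen.hypIdeal G := by
  haveI := isSeparated_projSpace r k
  refine le_antisymm (Scheme.IdealSheafData.le_ofIdeals_iff.2 fun U f hf => ?_) ?_
  · refine (Submodule.mem_iInf _).2 fun i => Ideal.mem_comap.2 ?_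
    let V : (CohB1.ProjSpace r k).affineOpens := ⟨U.1 ⊓ LefPen.chart r k i, U.2.inf (isAffineOpen_chart r k i)⟩
    have h1 := J.ideal_le_comap_ideal (U := V) (V := U) (inf_le_left : V.1 ≤ U.1) hf
    rw [Ideal.mem_comap, ← J.map_ideal (U := V) (V := achart r k i) (inf_le_right : V.1 ≤ _), hJ,
      Ideal.map_span, Set.image_singleton] at h1
    exact h1
  · refine Scheme.IdealSheafData.le_of_iSup_eq_top (achart r k) (iSup_chart r k) fun i => ?_
    rw [hJ]
    exact hypIdeal_ideal_chart_le G i

end Groth.Agent.HypCurve
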