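import Groth.Agent.HypCurve.WeierMap
import Mathlib.FieldTheory.IsAlgClosed.Basic

/-!
# Legendre normal form
-/

set_option autoImplicit false
set_option linter.style.haveILetI false
set_option linter.unusedSectionVars false
set_option backward.isDefEq.respectTransparency false
set_option backward.isDefEq.respectTransparency.types false

universe u

open CategoryTheory CategoryTheory.Limits AlgebraicGeometry TopologicalSpace Opposite

noncomputable section

namespace Groth.Agent.HypCurve

open Groth.Agent Groth.Agent.CurveCohLib Groth.Agent.CurveCohLib.Polar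

variable {k : Type u} [Field k] {X : Scheme.{u}} [IsIntegral X] [X.Over (Spec (CommRingCat.of k))]

local notation "η" => genericPoint X
local notation "K" => X.functionField

variable (k) in
theorem inR_of_inR_sq [IsProper (X ↘ Spec (CommRingCat.of k))] [Smooth (X ↘ Spec (CommRingCat.of k))]
    (hdim : topologicalKrullDim X = 1) {z : X} {t : K} (h : InR z (t ^ 2)) : InR z t := by
  haveI := CurveCohLib.isNoetherian_of_proper (k := k) (X := X)
  by_cases hz : IsClosed ({z} : Set X)
  · haveI : IsIntegrallyClosed (X.presheaf.stalk z) :=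
      CurveEmbed.isIntegrallyClosed_of_smooth k hdim hz (by
        rw [(Scheme.Hom.smoothLocus_eq_top_iff (f := X ↘ Spec (CommRingCat.of k))).2 inferInstance]; trivial)
    obtain ⟨q, hq⟩ := h
    obtain ⟨a, ha⟩ := IsIntegrallyClosed.exists_algebraMap_eq_of_isIntegral_pow (R := X.presheaf.stalk z)
      (x := t) (n := 2) two_pos (hq ▸ isIntegral_algebraMap)
    exact ⟨a, ha⟩
  · obtain rfl := CurveCohLib.eq_genericPoint_of_not_isClosed hdim hz
    by_cases ht : t = 0
    · rw [ht]; exact inR_zero _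
    · obtain ⟨V, hV, hu⟩ := exists_unit_nhd_generic ht
      exact (hu _ hV).1

namespace IsPointEqns

variable {D : Eqns X} {o : X} (P : IsPointEqns k D o)
include P

theorem exact_add {n : ℕ} {c d : K} (hc : c ∈ sections k D (n + 1)) (hce : Exact' D o (n + 1) c)
    (hd : d ∈ sections k D n) : c + d ∈ sections k D (n + 1) ∧ Exact' D o (n + 1) (c + d) := by
  have h := Submodule.add_mem (sections k D (n + 1)) hc (P.sections_mono n.le_succ hd)
  refine ⟨h, (P.exact_or_mem h).resolve_right fun h' => P.not_mem_of_exact hce ?_⟩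
  have := Submodule.sub_mem _ h' hd
  rwa [add_sub_cancel_right] at this

theorem const_mem (a : k) (n : ℕ) : cK k a ∈ sections k D n := fun z => ((D.inR z).pow n).mul (inR_cK k z a)

variable [IsProper (X ↘ Spec (CommRingCat.of k))] [Smooth (X ↘ Spec (CommRingCat.of k))]

variable (hdim : topologicalKrullDim X = 1)
  (h00 : Module.finrank k (Coh.HH X (Coh.structureModule X) 0) = 1)
  (hg : Curv2.genus k X = 1)

include hdim h00 hg

/-- The cubic in the equation has no double root. -/
theorem no_double_root {x y : K} (hx : x ∈ sections k D 2) (hxe : Exact' D o 2 x)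
    (hy : y ∈ sections k D 3) (hye : Exact' D o 3 y) (a b : k) :
    y ^ 2 ≠ (x - cK k a) ^ 2 * (x - cK k b) := by
  intro h
  letI := algK k (X := X)
  obtain ⟨hxa, hxae⟩ := P.exact_add (n := 1) (d := -cK k a) hx hxe (Submodule.neg_mem _ (P.const_mem a 1))
  obtain ⟨hxb, hxbe⟩ := P.exact_add (n := 1) (d := -cK k b) hx hxe (Submodule.neg_mem _ (P.const_mem b 1))
  rw [← sub_eq_add_neg] at hxa hxae hxb hxbe
  let t := y * (x - cK k a)⁻¹
  have ht2 : t ^ 2 = x - cK k b := by
    show (y * (x - cK k a)⁻¹) ^ 2 = _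
    rw [mul_pow, h, inv_pow, mul_comm ((x - cK k a) ^ 2), mul_assoc,
      mul_inv_cancel₀ (pow_ne_zero 2 hxae.1), mul_one]
  have hte : Exact' D o 1 t := by
    refine ⟨mul_ne_zero hye.1 (inv_ne_zero hxae.1), ?_⟩
    have h1 : UnitR o (D.A o ^ 2 * (x - cK k a))⁻¹ := ⟨hxae.2.2, by rw [inv_inv]; exact hxae.2.1⟩
    have h2 := hye.2.mul h1
    convert h2 using 1
    show D.A o ^ 1 * (y * (x - cK k a)⁻¹) = _
    have := D.ne o
    have := hxae.1
    field_simp
  have ht : t ∈ sections k D 1 := fun z => by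
    by_cases hz : z = o
    · exact hz ▸ hte.2.1
    · rw [P.A_ne z hz, one_pow, one_mul]
      refine inR_of_inR_sq k hdim ?_
      rw [ht2]
      have := hxb z
      rwa [P.A_ne z hz, one_pow, one_mul] at this
  obtain ⟨hf0, hf1⟩ := P.finrank_zero_one hdim h00 hg
  haveI := fun n => P.finite_sections (n := n)
  have he : sections k D 0 = sections k D 1 :=
    Submodule.eq_of_le_of_finrank_le (P.sections_mono zero_le_one) (by omega)
  exact P.not_mem_of_exact hte (he ▸ ht)

/-- Legendre normal form. -/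
theorem exists_legendre [IsAlgClosed k] (h2 : (2 : k) ≠ 0) : ∃ (x y : K) (l : k), l ≠ 0 ∧ l ≠ 1 ∧
    x ∈ sections k D 2 ∧ Exact' D o 2 x ∧ y ∈ sections k D 3 ∧ Exact' D o 3 y ∧
    y ^ 2 = x * (x - 1) * (x - cK k l) := by
  obtain ⟨x, y, a₁, a₂, a₃, a₄, a₆, hx, hxe, hy, hye, hrel⟩ := P.exists_weierstrass hdim h00 hg
  letI := algK k (X := X)
  let u := a₁ / 2
  let v := a₃ / 2
  obtain ⟨hy', hye'⟩ := P.exact_add (n := 2) (d := cK k u * x + cK k v) hy hye
    (Submodule.add_mem _ (Submodule.smul_mem _ u hx) (P.const_mem v 2))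
  let b₂ := a₂ + u ^ 2
  let b₄ := a₄ + 2 * u * v
  let b₆ := a₆ + v ^ 2
  have hu : cK (X := X) k a₁ = 2 * cK k u := by
    rw [← map_ofNat (cK (X := X) k) 2, ← map_mul]; congr 1; show a₁ = 2 * (a₁ / 2); field_simp
  have hv : cK (X := X) k a₃ = 2 * cK k v := by
    rw [← map_ofNat (cK (X := X) k) 2, ← map_mul]; congr 1; show a₃ = 2 * (a₃ / 2); field_simp
  have hrel' : (y + (cK k u * x + cK k v)) ^ 2 =
      x ^ 3 + cK k b₂ * x ^ 2 + cK k b₄ * x + cK k b₆ := by
    simp only [b₂, b₄, b₆, map_add, map_mul, map_pow, map_ofNat]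
    rw [hu, hv] at hrel
    linear_combination hrel
  -- the roots
  obtain ⟨e₁, he₁⟩ := IsAlgClosed.exists_root (Polynomial.X ^ 3 + Polynomial.C b₂ * Polynomial.X ^ 2
    + Polynomial.C b₄ * Polynomial.X + Polynomial.C b₆) (by
      intro h
      have := Polynomial.natDegree_eq_zero_iff_degree_le_zero.2 h.le
      have h3 : (Polynomial.X ^ 3 + Polynomial.C b₂ * Polynomial.X ^ 2
        + Polynomial.C b₄ * Polynomial.X + Polynomial.C b₆ : Polynomial k).natDegree = 3 := by compute_degree!
      omega)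
  simp only [Polynomial.IsRoot, Polynomial.eval_add, Polynomial.eval_mul, Polynomial.eval_pow,
    Polynomial.eval_C, Polynomial.eval_X] at he₁
  let p := b₂ + e₁
  let q := b₄ + e₁ * p
  obtain ⟨e₂, he₂⟩ := IsAlgClosed.exists_root (Polynomial.X ^ 2 + Polynomial.C p * Polynomial.X + Polynomial.C q) (by
      intro h
      have := Polynomial.natDegree_eq_zero_iff_degree_le_zero.2 h.le
      have h3 : (Polynomial.X ^ 2 + Polynomial.C p * Polynomial.X + Polynomial.C q : Polynomial k).natDegree = 2 := by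
        compute_degree!
      omega)
  simp only [Polynomial.IsRoot, Polynomial.eval_add, Polynomial.eval_mul, Polynomial.eval_pow,
    Polynomial.eval_C, Polynomial.eval_X] at he₂
  let e₃ := -p - e₂
  have hfac : (y + (cK k u * x + cK k v)) ^ 2 = (x - cK k e₁) * (x - cK k e₂) * (x - cK k e₃) := by
    have h1 := congrArg (cK (X := X) k) he₁
    have h2' := congrArg (cK (X := X) k) he₂
    simp only [p, q, map_add, map_mul, map_pow, map_zero] at h1 h2'
    simp only [e₃, p, map_sub, map_neg, map_add]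
    linear_combination hrel' + h1 + (x - cK k e₁) * h2'
  have h12 : e₁ ≠ e₂ := fun h => P.no_double_root hdim h00 hg hx hxe hy' hye' e₁ e₃ (by rw [hfac, h]; ring)
  have h13 : e₁ ≠ e₃ := fun h => P.no_double_root hdim h00 hg hx hxe hy' hye' e₁ e₂ (by rw [hfac, h]; ring)
  have h23 : e₂ ≠ e₃ := fun h => P.no_double_root hdim h00 hg hx hxe hy' hye' e₂ e₁ (by rw [hfac, h]; ring)
  let d := e₂ - e₁
  have hd : d ≠ 0 := sub_ne_zero.2 h12.symm
  obtain ⟨s, hs⟩ := IsAlgClosed.exists_pow_nat_eq (d ^ 3) two_pos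
  have hs0 : s ≠ 0 := fun h => by rw [h, zero_pow two_ne_zero] at hs; exact pow_ne_zero 3 hd hs.symm
  obtain ⟨hxm, hxme⟩ := P.exact_add (n := 1) (d := -cK k e₁) hx hxe (Submodule.neg_mem _ (P.const_mem e₁ 1))
  refine ⟨cK k d⁻¹ * (x + -cK k e₁), cK k s⁻¹ * (y + (cK k u * x + cK k v)), (e₃ - e₁) / d,
    div_ne_zero (sub_ne_zero.2 h13.symm) hd, fun h => ?_, Submodule.smul_mem _ d⁻¹ hxm,
    P.exact_cK_mul hxme (inv_ne_zero hd), Submodule.smul_mem _ s⁻¹ hy', P.exact_cK_mul hye' (inv_ne_zero hs0), ?_⟩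
  · rw [div_eq_one_iff_eq hd, sub_left_inj] at h
    exact h23 h.symm
  · have hd' : cK (X := X) k d ≠ 0 := (map_ne_zero _).2 hd
    rw [mul_pow, hfac, ← map_pow, inv_pow, hs, map_inv₀, map_inv₀, map_pow, map_div₀,
      show cK (X := X) k (e₃ - e₁) = cK k e₃ - cK k e₁ from map_sub _ _ _]
    have hde : cK (X := X) k d = cK k e₂ - cK k e₁ := map_sub _ _ _
    field_simp
    rw [hde]
    ring

end IsPointEqns

end Groth.Agent.HypCurve
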