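import Groth.Agent.HypCurve.PlaneCoh

/-!
# Cohomology of the structure sheaf of a hypersurface of degree at most the dimension of the ambient space
-/

set_option autoImplicit false
set_option linter.style.haveILetI false
set_option linter.unusedSectionVars false
set_option backward.isDefEq.respectTransparency false
set_option backward.isDefEq.respectTransparency.types false

universe u

open CategoryTheory CategoryTheory.Limits AlgebraicGeometry TopologicalSpace Opposite

noncomputable section

namespace Groth.Agent.HypCurve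

open Groth.Agent Groth.Agent.CurveCohLib
open Groth.Agent.PnCoh.Finite (mapLin deltaLin exists_of_deltaLin_eq_zero)

variable {r : ℕ} {k : Type u} [Field k]

theorem hypIdeal_zero (d : ℕ) : LefPen.hypIdeal (0 : LefPen.Form r k d) = ⊥ := by
  refine Scheme.IdealSheafData.ext_of_iSup_eq_top (fun i => achart r k i) (iSup_chart r k) fun i => ?_
  rw [hypIdeal_chart, Scheme.IdealSheafData.ideal_bot, Pi.bot_apply, Ideal.span_singleton_eq_bot, dehom_eq]
  simp [ZetaLib.dehom]

/-- Cohomology of the structure sheaf of a hypersurface of low degree. -/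
theorem structure_low_degree (d : ℕ) (hd : 1 ≤ d) (hdr : d ≤ r) (G : LefPen.Form r k d)
    [inst : ((LefPen.hypIdeal G).subscheme).Over (Spec (CommRingCat.of k))]
    (hinst : (LefPen.hypIdeal G).subscheme ↘ (Spec (CommRingCat.of k)) = (LefPen.hypIdeal G).subschemeι ≫ CohB1.ProjSpace.toSpec r k) :
    (∀ i : ℕ, 1 ≤ i → Subsingleton (Coh.HH (LefPen.hypIdeal G).subscheme
        (Coh.structureModule (LefPen.hypIdeal G).subscheme) i)) ∧
      Module.finrank k (Coh.HH (LefPen.hypIdeal G).subscheme (Coh.structureModule (LefPen.hypIdeal G).subscheme) 0) = 1 := by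
  let I := LefPen.hypIdeal G
  have hpush : ∀ q, Nonempty (Coh.HH I.subscheme (Coh.structureModule I.subscheme) q ≃ₗ[k]
      Coh.HH (CohB1.ProjSpace r k) (ClSub.quotMod I) q) := fun q =>
    PnCoh.exists_linearEquiv_push (X := I.subscheme) (P := CohB1.ProjSpace r k) k I.subschemeι
      hinst.symm (QCoh.isQCoh_structureModule (X := I.subscheme)) q
  suffices h : ∀ q, Nonempty (Coh.HH (CohB1.ProjSpace r k) (Coh.structureModule (CohB1.ProjSpace r k)) q ≃ₗ[k]
      Coh.HH (CohB1.ProjSpace r k) (ClSub.quotMod I) q) by
    refine ⟨fun i hi => ?_, ?_⟩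
    · obtain ⟨e⟩ := hpush i
      obtain ⟨e'⟩ := h i
      haveI := subsingleton_structure (r := r) (k := k) i (by omega)
      exact (e.trans e'.symm).injective.subsingleton
    · obtain ⟨e⟩ := hpush 0
      obtain ⟨e'⟩ := h 0
      rw [(e.trans e'.symm).finrank_eq]
      exact finrank_structure
  intro q
  by_cases hG : G = 0
  · have key : ∀ J : (CohB1.ProjSpace r k).IdealSheafData, J = ⊥ → IsIso (ClSub.toSubscheme J) := by
      rintro J rfl
      exact Scheme.Modules.Hom.isIso_iff_isIso_app.2 fun U => by
        rw [ConcreteCategory.isIso_iff_bijective]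
        exact ConcreteCategory.bijective_of_isIso
          ((Scheme.IdealSheafData.subschemeι (⊥ : (CohB1.ProjSpace r k).IdealSheafData)).app U)
    haveI : IsIso (ClSub.toSubscheme I) := key I (by show LefPen.hypIdeal G = ⊥; rw [hG, hypIdeal_zero])
    exact ⟨CurveCohLib.hhEquiv (k := k) (asIso (ClSub.toSubscheme I)) q⟩
  · obtain ⟨h, hS⟩ := exists_shortExact hG
    have hvan : ∀ q, Subsingleton (Coh.HH (CohB1.ProjSpace r k) (Twist.twistProjSpace r k (-(d : ℤ))) q) :=
      fun q => S0844.result k r (-(d : ℤ)) q (fun h => by have := h.2; omega) fun h => by have := h.2; omega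
    exact ⟨LinearEquiv.ofBijective _ (bijective_g k hS q (hvan q) (hvan (q + 1)))⟩

end Groth.Agent.HypCurve
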