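import Groth.Agent.CurveCohLib.PolarEq
import Groth.Agent.CurveEmbed.Conic
import Groth.Agent.CurveEmbed.Equiv
import Groth.Agent.CurveEmbed.Main
import Mathlib.RingTheory.DiscreteValuationRing.Basic

/-!
# The equations of a rational point on a smooth curve
-/

set_option autoImplicit false
set_option linter.style.haveILetI false
set_option linter.unusedSectionVars false
set_option backward.isDefEq.respectTransparency false
set_option backward.isDefEq.respectTransparency.types false

universe u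

open CategoryTheory CategoryTheory.Limits AlgebraicGeometry TopologicalSpace Opposite

noncomputable section

namespace Groth.Agent.HypCurve

open Groth.Agent Groth.Agent.CurveCohLib Groth.Agent.CurveCohLib.Polar

variable {X : Scheme.{u}} [IsIntegral X]

local notation "η" => genericPoint X
local notation "K" => X.functionField

theorem inR_sub {z : X} {c d : K} (hc : InR z c) (hd : InR z d) : InR z (c - d) :=
  (algebraMap (X.presheaf.stalk z) K).range.sub_mem hc hd

theorem unitR_one (z : X) : UnitR z (1 : K) := ⟨inR_one z, by rw [inv_one]; exact inR_one z⟩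

theorem UnitR.pow' {z : X} {c : K} (h : UnitR z c) (n : ℕ) : UnitR z (c ^ n) :=
  ⟨h.1.pow n, by rw [← inv_pow]; exact h.2.pow n⟩

theorem isUnit_of_unitR {z : X} {a : X.presheaf.stalk z} (h0 : algebraMap (X.presheaf.stalk z) K a ≠ 0)
    (h : UnitR z (algebraMap (X.presheaf.stalk z) K a)) : IsUnit a := by
  obtain ⟨b, hb⟩ := h.2
  exact IsUnit.of_mul_eq_one b (IsFractionRing.injective (X.presheaf.stalk z) K (by
    rw [map_mul, hb, map_one, mul_inv_cancel₀ h0]))

/-- In a discrete valuation ring every function has bounded poles against a nonzero non-unit. -/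
theorem exists_inR_pow_mul {z : X} [IsDiscreteValuationRing (X.presheaf.stalk z)] {a : X.presheaf.stalk z}
    (ha : ¬ IsUnit a) (c : K) :
    ∃ n : ℕ, InR z (algebraMap (X.presheaf.stalk z) K a ^ n * c) := by
  obtain ⟨p, q, hq, rfl⟩ := IsFractionRing.div_surjective (A := X.presheaf.stalk z) c
  obtain ⟨ϖ, hϖ⟩ := IsDiscreteValuationRing.exists_irreducible (X.presheaf.stalk z)
  obtain ⟨m, w, rfl⟩ := IsDiscreteValuationRing.eq_unit_mul_pow_irreducible (nonZeroDivisors.ne_zero hq) hϖ
  obtain ⟨t, ht⟩ : ϖ ∣ a := by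
    rw [← Ideal.mem_span_singleton, ← hϖ.maximalIdeal_eq]
    exact ha
  refine ⟨m, t ^ m * p * ↑w⁻¹, ?_⟩
  have h1 : algebraMap (X.presheaf.stalk z) K ((w : X.presheaf.stalk z) * ϖ ^ m) ≠ 0 :=
    IsFractionRing.to_map_ne_zero_of_mem_nonZeroDivisors hq
  refine mul_right_cancel₀ h1 ?_
  rw [mul_assoc (algebraMap _ K a ^ m), div_mul_cancel₀ _ h1, ← map_pow, ← map_mul, ← map_mul]
  refine congrArg _ ?_
  rw [ht, mul_pow]
  calc t ^ m * p * ↑w⁻¹ * (↑w * ϖ ^ m) = (↑w⁻¹ * ↑w) * (ϖ ^ m * t ^ m * p) := by ring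
    _ = ϖ ^ m * t ^ m * p := by rw [Units.inv_mul, one_mul]

variable (k : Type u) [Field k] [X.Over (Spec (CommRingCat.of k))]

/-- The constants in the function field. -/
abbrev algK : Algebra k K := (cK k).toAlgebra

theorem unitR_cK (z : X) {a : k} (ha : a ≠ 0) : UnitR z (cK (X := X) k a) :=
  ⟨inR_cK k z a, by rw [← map_inv₀]; exact inR_cK k z a⁻¹⟩

/-- The functions with poles bounded by `n` times the divisor. -/
def sections (D : Eqns X) (n : ℕ) : letI := algK k (X := X); Submodule k K :=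
  letI := algK k (X := X)
  { carrier := {c | ∀ z, InR z (D.A z ^ n * c)}
    add_mem' := fun {a b} ha hb z => by rw [mul_add]; exact (ha z).add (hb z)
    zero_mem' := fun z => by rw [mul_zero]; exact inR_zero z
    smul_mem' := fun a c hc z => by
      show InR z (D.A z ^ n * (cK k a * c))
      rw [mul_left_comm]
      exact (inR_cK k z a).mul (hc z) }

/-- The global sections as functions. -/
def sectionsEquiv (D : Eqns X) (n : ℕ) :
    letI := algK k (X := X); Coh.HH X (mod D n) 0 ≃ₗ[k] sections k D n :=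
  letI := algK k (X := X)
  LinearEquiv.ofBijective
    { toFun := fun t => ⟨v0 t, fun z => v0_mem t z⟩
      map_add' := fun a b => Subtype.ext (map_add (v0 (D := D) (n := n)) a b)
      map_smul' := fun a t => Subtype.ext (v0_smul k a t) }
    ⟨fun a b h => v0_injective (congrArg Subtype.val h), fun c => by
      obtain ⟨t, ht⟩ := exists_v0 (D := D) (n := n) c.2
      exact ⟨t, Subtype.ext ht⟩⟩

/-- Exact pole order. -/
def Exact' (D : Eqns X) (o : X) (n : ℕ) (c : K) : Prop := c ≠ 0 ∧ UnitR o (D.A o ^ n * c)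

/-- The equations of a rational point with discrete valuation ring. -/
structure IsPointEqns (D : Eqns X) (o : X) : Prop where
  A_ne : ∀ z, z ≠ o → D.A z = 1
  irr : ∃ ϖ : X.presheaf.stalk o, Irreducible ϖ ∧ algebraMap (X.presheaf.stalk o) K ϖ = D.A o
  res : ∀ a : X.presheaf.stalk o, ∃ t : k, ¬ IsUnit (a - Curv2.stalkMap k X o t)
  dvr : IsDiscreteValuationRing (X.presheaf.stalk o)

variable {k}

theorem algebraMap_stalkMap (o : X) (t : k) :
    algebraMap (X.presheaf.stalk o) K (Curv2.stalkMap k X o t) = cK k t := by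
  haveI : Nonempty (⊤ : X.Opens) := ⟨⟨o, trivial⟩⟩
  exact X.algebraMap_germ_eq_germToFunctionField (U := ⊤) (x := o) trivial _

namespace IsPointEqns

variable {D : Eqns X} {o : X} (P : IsPointEqns k D o)
include P

theorem inR_of_ne {n : ℕ} {c : K} {z : X} (hz : z ≠ o) (h : InR z (D.A z ^ n * c)) (m : ℕ) :
    InR z (D.A z ^ m * c) := by
  rw [P.A_ne z hz, one_pow] at h ⊢
  exact h

theorem not_unitR_A : ¬ UnitR o (D.A o) := fun h => by
  obtain ⟨ϖ, hϖ, hA⟩ := P.irr
  exact hϖ.not_isUnit (isUnit_of_unitR (hA.trans_ne (D.ne o)) (hA ▸ h))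

/-- A regular non-unit is divisible by the uniformiser. -/
theorem div_A {a : X.presheaf.stalk o} (ha : ¬ IsUnit a) :
    InR o (algebraMap (X.presheaf.stalk o) K a * (D.A o)⁻¹) := by
  haveI := P.dvr
  obtain ⟨ϖ, hϖ, hA⟩ := P.irr
  obtain ⟨b, rfl⟩ : ϖ ∣ a := by
    rw [← Ideal.mem_span_singleton, ← hϖ.maximalIdeal_eq]
    exact ha
  refine ⟨b, ?_⟩
  rw [map_mul, hA]
  field_simp [D.ne o]

theorem exact_or_mem {n : ℕ} {c : K} (hc : c ∈ sections k D (n + 1)) :
    Exact' D o (n + 1) c ∨ c ∈ sections k D n := by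
  obtain ⟨a, ha⟩ := hc o
  by_cases h0 : c = 0
  · right; rw [h0]; exact Submodule.zero_mem _
  by_cases hu : IsUnit a
  · exact Or.inl ⟨h0, ha ▸ unitR_of_isUnit hu⟩
  · refine Or.inr fun z => ?_
    by_cases hz : z = o
    · subst hz
      have := P.div_A hu
      rwa [ha, show D.A z ^ (n + 1) * c * (D.A z)⁻¹ = D.A z ^ n * c by
        rw [pow_succ]; field_simp [D.ne z]] at this
    · exact P.inR_of_ne hz (hc z) n

theorem not_mem_of_exact {n : ℕ} {c : K} (hc : Exact' D o (n + 1) c) : c ∉ sections k D n := by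
  intro h
  obtain ⟨b, hb⟩ := h o
  obtain ⟨ϖ, hϖ, hA⟩ := P.irr
  refine hϖ.not_isUnit (isUnit_of_mul_isUnit_left (y := b) (isUnit_of_unitR ?_ ?_))
  · rw [map_mul, hA, hb]
    exact mul_ne_zero (D.ne o) (mul_ne_zero (pow_ne_zero _ (D.ne o)) hc.1)
  · rw [map_mul, hA, hb, ← mul_assoc, ← pow_succ']
    exact hc.2

/-- The leading coefficient. -/
theorem exists_lead {n : ℕ} {c m : K} (hc : c ∈ sections k D (n + 1)) (hm : m ∈ sections k D (n + 1))
    (hme : Exact' D o (n + 1) m) : ∃ t : k, c - cK k t * m ∈ sections k D n := by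
  obtain ⟨q, hq⟩ : InR o (D.A o ^ (n + 1) * c * (D.A o ^ (n + 1) * m)⁻¹) := (hc o).mul hme.2.2
  obtain ⟨t, ht⟩ := P.res q
  refine ⟨t, fun z => ?_⟩
  by_cases hz : z = o
  · subst hz
    have := (P.div_A ht).mul hme.2.1
    rw [map_sub, hq, algebraMap_stalkMap] at this
    convert this using 1
    have := hme.1
    have := D.ne z
    rw [pow_succ]
    field_simp
  · refine P.inR_of_ne (n := n + 1) hz ?_ n
    rw [mul_sub, mul_left_comm]
    exact inR_sub (hc z) ((inR_cK k z t).mul (hm z))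

theorem exact_mul {i j : ℕ} {c d : K} (hc : Exact' D o i c) (hd : Exact' D o j d) : Exact' D o (i + j) (c * d) :=
  ⟨mul_ne_zero hc.1 hd.1, by
    rw [show D.A o ^ (i + j) * (c * d) = (D.A o ^ i * c) * (D.A o ^ j * d) by rw [pow_add]; ring]
    exact hc.2.mul hd.2⟩

theorem exact_one : Exact' D o 0 (1 : K) := ⟨one_ne_zero, by rw [pow_zero, one_mul]; exact unitR_one o⟩

theorem exact_cK_mul {i : ℕ} {c : K} (hc : Exact' D o i c) {a : k} (ha : a ≠ 0) :
    Exact' D o i (cK k a * c) :=
  ⟨mul_ne_zero ((map_ne_zero _).2 ha) hc.1, by rw [mul_left_comm]; exact (unitR_cK k o ha).mul hc.2⟩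

theorem exact_pow {i : ℕ} {c : K} (hc : Exact' D o i c) : ∀ a : ℕ, Exact' D o (a * i) (c ^ a)
  | 0 => by rw [Nat.zero_mul, pow_zero]; exact P.exact_one
  | a + 1 => by rw [pow_succ, Nat.succ_mul]; exact P.exact_mul (exact_pow hc a) hc

theorem sections_mono {i j : ℕ} (h : i ≤ j) : sections k D i ≤ sections k D j := fun c hc z => by
  obtain ⟨r, rfl⟩ := Nat.exists_eq_add_of_le h
  rw [pow_add, mul_comm (D.A z ^ i), mul_assoc]
  exact ((D.inR z).pow r).mul (hc z)

/-- Functions of distinct pole orders are independent. -/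
theorem linearIndependent_of_exact {ι : Type*} (m : ι → K) (e : ι → ℕ) (he : Function.Injective e)
    (hmem : ∀ p, m p ∈ sections k D (e p)) (hex : ∀ p, Exact' D o (e p) (m p)) :
    letI := algK k (X := X); LinearIndependent k m := by
  classical
  letI := algK k (X := X)
  rw [linearIndependent_iff']
  intro s g hsum
  by_contra! hne
  obtain ⟨p₀, hp₀, hg₀⟩ := hne
  obtain ⟨p, hp, hmax⟩ := (s.filter fun q => g q ≠ 0).exists_max_image e ⟨p₀, Finset.mem_filter.2 ⟨hp₀, hg₀⟩⟩
  obtain ⟨hps, hgp⟩ := Finset.mem_filter.1 hp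
  have hsum' : g p • m p + ∑ q ∈ s.erase p, g q • m q = 0 := by
    rw [Finset.add_sum_erase _ (fun q => g q • m q) hps]; exact hsum
  rcases Nat.eq_zero_or_pos (e p) with h0 | hpos
  · have : ∀ q ∈ s.erase p, g q • m q = 0 := fun q hq => by
      obtain ⟨hqp, hqs⟩ := Finset.mem_erase.1 hq
      by_contra h
      have hg : g q ≠ 0 := fun h' => h (by rw [h', zero_smul])
      have := hmax q (Finset.mem_filter.2 ⟨hqs, hg⟩)
      exact hqp (he (by omega))
    rw [Finset.sum_eq_zero this, add_zero] at hsum'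
    exact (P.exact_cK_mul (hex p) hgp).1 hsum'
  · obtain ⟨j, hj⟩ := Nat.exists_eq_succ_of_ne_zero hpos.ne'
    refine P.not_mem_of_exact (n := j) (c := cK k (g p) * m p) (hj ▸ P.exact_cK_mul (hex p) hgp) ?_
    have h1 : ∑ q ∈ s.erase p, g q • m q ∈ sections k D j := Submodule.sum_mem _ fun q hq => by
      obtain ⟨hqp, hqs⟩ := Finset.mem_erase.1 hq
      by_cases hg : g q = 0
      · rw [hg, zero_smul]; exact Submodule.zero_mem _
      · refine Submodule.smul_mem _ _ (P.sections_mono ?_ (hmem q))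
        have := hmax q (Finset.mem_filter.2 ⟨hqs, hg⟩)
        have : e q ≠ e p := fun h => hqp (he h)
        omega
    show g p • m p ∈ sections k D j
    rw [eq_neg_of_add_eq_zero_left hsum']
    exact Submodule.neg_mem _ h1

theorem exists_inR_pow (c : K) : ∃ n : ℕ, InR o (D.A o ^ n * c) := by
  haveI := P.dvr
  obtain ⟨ϖ, hϖ, hA⟩ := P.irr
  rw [← hA]
  exact exists_inR_pow_mul hϖ.not_isUnit c

end IsPointEqns

variable [IsProper (X ↘ Spec (CommRingCat.of k))]

variable (k) in
/-- The residue field of a rational point. -/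
theorem exists_sub_not_isUnit (s : Spec (CommRingCat.of k) ⟶ X) (hs : s ≫ X ↘ Spec (CommRingCat.of k) = 𝟙 _)
    (a : X.presheaf.stalk (s (IsLocalRing.closedPoint k))) :
    ∃ t : k, ¬ IsUnit (a - Curv2.stalkMap k X (s (IsLocalRing.closedPoint k)) t) := by
  obtain ⟨-, -, hsur⟩ := CurveEmbed.section_point k s hs
  obtain ⟨t, ht⟩ := hsur ((X.residue _).hom a)
  refine ⟨t, fun h => (h.map (X.residue _).hom).ne_zero ?_⟩
  rw [map_sub, sub_eq_zero]
  exact ht.symm

variable (k) in
/-- The equations of a rational point of a smooth curve. -/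
theorem exists_pointEqns [Smooth (X ↘ Spec (CommRingCat.of k))] (hdim : topologicalKrullDim X = 1)
    (s : Spec (CommRingCat.of k) ⟶ X) (hs : s ≫ X ↘ Spec (CommRingCat.of k) = 𝟙 _) :
    ∃ D : Eqns X, IsPointEqns k D (s (IsLocalRing.closedPoint k)) ∧
      IsClosed ({s (IsLocalRing.closedPoint k)} : Set X) := by
  classical
  haveI := CurveCohLib.isNoetherian_of_proper (k := k) (X := X)
  obtain ⟨hcl, -, -⟩ := CurveEmbed.section_point k s hs
  generalize ho : s (IsLocalRing.closedPoint k) = o at hcl ⊢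
  haveI hdvr : IsDiscreteValuationRing (X.presheaf.stalk o) :=
    CurveEmbed.isDVR_of_normal k hdim hcl (CurveEmbed.isIntegrallyClosed_of_smooth k hdim hcl (by
      rw [(Scheme.Hom.smoothLocus_eq_top_iff (f := X ↘ Spec (CommRingCat.of k))).2 inferInstance]; trivial))
  obtain ⟨ϖ, hϖ⟩ := IsDiscreteValuationRing.exists_irreducible (X.presheaf.stalk o)
  have hπ0 : algebraMap (X.presheaf.stalk o) K ϖ ≠ 0 :=
    fun h => hϖ.ne_zero (IsFractionRing.injective (X.presheaf.stalk o) K (h.trans (map_zero _).symm))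
  obtain ⟨V, hηV, hV⟩ := exists_unit_nhd_generic hπ0
  obtain ⟨W, hoW, r, hr⟩ := exists_gη_of_inR (⟨ϖ, rfl⟩ : InR o (algebraMap (X.presheaf.stalk o) K ϖ))
  have hS : IsClosed (((V : Set X)ᶜ) \ {o}) := by
    have hcp : ∀ x ∈ (V : Set X)ᶜ, IsClosed ({x} : Set X) := fun x hx => by
      by_contra hne
      exact hx (CurveCohLib.eq_genericPoint_of_not_isClosed hdim hne ▸ hηV)
    have hfin := CurveCohLib.finite_of_closedPoints V.isOpen.isClosed_compl hcp
    rw [← Set.biUnion_of_singleton (((V : Set X)ᶜ) \ {o})]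
    exact hfin.sdiff.isClosed_biUnion fun x hx => hcp x hx.1
  let D : Eqns X :=
    { A := fun z => if z = o then algebraMap (X.presheaf.stalk o) K ϖ else 1
      ne := fun z => by split_ifs <;> [exact hπ0; exact one_ne_zero]
      inR := fun z => by
        split_ifs with h
        · subst h; exact ⟨ϖ, rfl⟩
        · exact inR_one z
      loc := fun z => by
        by_cases h : z = o
        · refine ⟨W ⊓ ⟨(((V : Set X)ᶜ) \ {o})ᶜ, hS.isOpen_compl⟩, ⟨h ▸ hoW, fun hz => hz.2 h⟩, fun y hy => ?_⟩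
          rw [if_pos h]
          by_cases hy' : y = o
          · rw [if_pos hy', div_self hπ0]; exact ⟨inR_one y, inR_one y⟩
          · rw [if_neg hy', div_one, one_div]
            have hyV : y ∈ V := by
              by_contra hc
              exact hy.2 ⟨hc, hy'⟩
            exact hV y hyV
        · refine ⟨⟨({o} : Set X)ᶜ, hcl.isOpen_compl⟩, h, fun y (hy : y ≠ o) => ?_⟩
          rw [if_neg h, if_neg hy, div_one]
          exact ⟨inR_one y, inR_one y⟩ }
  refine ⟨D, ⟨fun z hz => if_neg hz, ⟨ϖ, hϖ, (if_pos rfl).symm⟩, fun a => ?_, hdvr⟩, hcl⟩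
  subst ho
  exact exists_sub_not_isUnit k s hs a

end Groth.Agent.HypCurve
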