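import Groth.Agent.HypCurve.IdealChart
import Groth.Agent.PnCoh.Finite.TwistInv
import Groth.Agent.QCoh.ClosedPush
import Groth.Agent.ExtShX.Divisor
import Groth.Agent.H23.PnChart
import Groth.Agent.InvX.Frame

/-!
# The exact sequence of a hypersurface in projective space
-/

set_option autoImplicit false
set_option linter.style.haveILetI false
set_option linter.unusedSectionVars false
set_option backward.isDefEq.respectTransparency false
set_option backward.isDefEq.respectTransparency.types false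

universe u

open CategoryTheory CategoryTheory.Limits AlgebraicGeometry TopologicalSpace Opposite

noncomputable section

namespace Groth.Agent.HypCurve

open Groth.Agent Groth.Agent.PnCoh Groth.Agent.PnCoh.Finite

variable {R A : Type u} [CommRing R] [CommRing A] [Algebra R A] {𝒜 : ℕ → Submodule R A} [GradedAlgebra 𝒜]

/-- Sections of twists in equal degrees. -/
def castSect {a b : ℤ} (h : a = b) {U : (Opens (ProjectiveSpectrum.top 𝒜))ᵒᵖ}
    (f : Twist.sectN (𝒜 := 𝒜) a U) : Twist.sectN (𝒜 := 𝒜) b U :=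
  ⟨fun x => ⟨(f.1 x).1, h ▸ (f.1 x).2⟩, by subst h; exact f.2⟩

/-- Multiplication by a homogeneous element. -/
def mulTw {d : ℕ} (F : 𝒜 d) : Twist.twist 𝒜 (-(d : ℤ)) ⟶ Twist.twist 𝒜 0 where
  val := PresheafOfModules.homMk
    { app := fun W => AddCommGrpCat.ofHom (AddMonoidHom.mk'
        (fun s => castSect (neg_add_cancel (d : ℤ)) (mulSect (-(d : ℤ)) (d : ℤ) s
          (Twist.resN (d : ℤ) (homOfLE (le_top : W.unop ≤ ⊤)).op (Twist.globalOf 𝒜 F))))
        fun s t => Subtype.ext (funext fun x => Subtype.ext (add_mul (s.1 x).1 (t.1 x).1 _)))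
      naturality := fun V W i => by
        ext s
        rfl }
    fun W c s => Subtype.ext (funext fun x => Subtype.ext (by
      show ((((c.1 x) • (s.1 x) : Twist.twistAt 𝒜 (-(d : ℤ)) x.1)).1) * _ =
        (((c.1 x) • (⟨(s.1 x).1 * _, _⟩ : Twist.twistAt 𝒜 0 x.1) : Twist.twistAt 𝒜 0 x.1)).1
      rw [Submodule.coe_smul, Submodule.coe_smul, smul_mul_assoc]))

theorem mulTw_val {d : ℕ} (F : 𝒜 d) {U : (Proj 𝒜).Opens} (s : Γ(Twist.twist 𝒜 (-(d : ℤ)), U)) (x : U) :
    (((mulTw F).app U s).1 x).1 = (s.1 x).1 *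
      Localization.mk F.1 (⟨1, fun h => x.1.isPrime.ne_top ((Ideal.eq_top_iff_one _).mpr h)⟩ :
          x.1.asHomogeneousIdeal.toIdeal.primeCompl) := rfl

theorem oneHom_val {U : (Proj 𝒜).Opens} (c : Γ(Proj 𝒜, U)) (x : U) :
    (((oneHom (𝒜 := 𝒜)).app U (show Γ(Coh.structureModule (Proj 𝒜), U) from c)).1 x).1 = (c.1 x).val := by
  refine (Twist.coe_smul_val (0 : ℤ) x.1 (c.1 x) ((oneSect (𝒜 := 𝒜) (U := U)).1 x)).trans ?_
  show _ * Localization.mk (1 : A) _ = _
  refine (congrArg (_ * ·) ?_).trans (mul_one _)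
  exact (Localization.mk_self (⟨1, _⟩ : x.1.asHomogeneousIdeal.toIdeal.primeCompl))

variable {r : ℕ} {k : Type u} [Field k]

local notation "P" => CohB1.ProjSpace r k

variable (r k) in
theorem isIso_oneHom_projSpace : IsIso (oneHom (𝒜 := CohB1.polyGrading r k)) :=
  isIso_oneHom (fun j : Fin (r + 1) => MvPolynomial.X j) (fun j => LefPen.X_mem r k j) (iSup_chart r k)

/-- Multiplication by a form as a map into the functions. -/
def mulForm {d : ℕ} (G : LefPen.Form r k d) :
    Twist.twistProjSpace r k (-(d : ℤ)) ⟶ Coh.structureModule P :=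
  haveI := isIso_oneHom_projSpace r k
  mulTw G ≫ inv (oneHom (𝒜 := CohB1.polyGrading r k))

theorem mulForm_oneHom {d : ℕ} (G : LefPen.Form r k d) {U : (CohB1.ProjSpace r k).Opens}
    (s : Γ(Twist.twist (CohB1.polyGrading r k) (-(d : ℤ)), U)) :
    (oneHom (𝒜 := CohB1.polyGrading r k)).app U ((mulForm G).app U s) = (mulTw G).app U s := by
  haveI := isIso_oneHom_projSpace r k
  have h : mulForm G ≫ oneHom (𝒜 := CohB1.polyGrading r k) = mulTw G := by
    show (mulTw G ≫ inv _) ≫ _ = _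
    rw [Category.assoc, IsIso.inv_hom_id, Category.comp_id]
  exact congr(($h).app U s)

/-- On a chart the image of the generator is the chart equation. -/
theorem mulForm_trivMap {d : ℕ} (G : LefPen.Form r k d) (i : Fin (r + 1)) {V : (CohB1.ProjSpace r k).Opens}
    (hV : V ≤ LefPen.chart r k i) (c : Γ(P, V)) :
    (show Γ(P, V) from (mulForm G).app V (trivMap (LefPen.X_mem r k i) (-(d : ℤ)) (nonVan_of_le hV) c)) =
      c * (show Γ(P, V) from AModX.resR hV (LefPen.dehom G i)) := by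
  haveI := isIso_oneHom_projSpace r k
  refine (ConcreteCategory.bijective_of_isIso ((oneHom (𝒜 := CohB1.polyGrading r k)).app V)).1 ?_
  refine (mulForm_oneHom G _).trans (Subtype.ext (funext fun x => Subtype.ext ?_))
  refine (mulTw_val G _ x).trans ?_
  refine Eq.trans ?_ (oneHom_val _ x).symm
  show _ = ((c.1 x) * (LefPen.dehom G i).1 ⟨x.1, hV x.2⟩).val
  rw [trivMap_apply, HomogeneousLocalization.val_mul, dehom_val, mul_assoc]
  refine congrArg _ ?_
  rw [Localization.mk_mul, Localization.mk_eq_mk_iff, Localization.r_iff_exists]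
  exact ⟨1, by simp [Int.toNat_neg_natCast, mul_comm]⟩

theorem trivMap_surjective {d : ℤ} (i : Fin (r + 1)) {V : (CohB1.ProjSpace r k).Opens}
    (hV : V ≤ LefPen.chart r k i) (s : Γ(Twist.twist (CohB1.polyGrading r k) d, V)) :
    ∃ c : Γ(P, V), trivMap (LefPen.X_mem r k i) d (nonVan_of_le hV) c = s :=
  (trivMap_bijective (LefPen.X_mem r k i) d (nonVan_of_le hV)).2 s

theorem dehom_ne_zero {d : ℕ} {G : LefPen.Form r k d} (hG : G ≠ 0) (i : Fin (r + 1))
    {V : (CohB1.ProjSpace r k).Opens} (hV : V ≤ LefPen.chart r k i) (hne : (V : Set P).Nonempty) :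
    AModX.resR hV (LefPen.dehom G i) ≠ 0 := by
  intro h
  obtain ⟨x, hx⟩ := hne
  haveI := (x : ProjectiveSpectrum (CohB1.polyGrading r k)).isPrime
  have h1 : ((LefPen.dehom G i).1 ⟨x, hV hx⟩).val = 0 := by
    rw [show (LefPen.dehom G i).1 ⟨x, hV hx⟩ = (AModX.resR hV (LefPen.dehom G i)).1 ⟨x, hx⟩ from rfl, h]
    exact HomogeneousLocalization.val_zero
  rw [dehom_val, ← Localization.mk_zero (1 : x.asHomogeneousIdeal.toIdeal.primeCompl), Localization.mk_eq_mk_iff,
    Localization.r_iff_exists] at h1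
  obtain ⟨⟨c, hc⟩, hce⟩ := h1
  simp only [OneMemClass.coe_one, mul_zero, one_mul, mul_eq_zero] at hce
  rcases hce with hce | hce
  · exact hc (hce ▸ Submodule.zero_mem _)
  · exact hG (Subtype.ext hce)

theorem toSubscheme_app_eq_zero_iff {X : Scheme.{u}} (I : X.IdealSheafData) (V : X.affineOpens) (f : Γ(X, V.1)) :
    (ClSub.toSubscheme I).app V.1 (show Γ(Coh.structureModule X, V.1) from f) = 0 ↔ f ∈ I.ideal V := by
  conv_rhs => rw [← I.ker_subschemeι]
  rw [Scheme.Hom.ker_apply]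
  exact Iff.rfl

/-- The hypersurface sequence `0 → O(-d) → O → O_X → 0`. -/
theorem exists_shortExact {d : ℕ} {G : LefPen.Form r k d} (hG : G ≠ 0) :
    ∃ h : mulForm G ≫ ClSub.toSubscheme (LefPen.hypIdeal G) = 0,
      (ShortComplex.mk (mulForm G) (ClSub.toSubscheme (LefPen.hypIdeal G)) h).ShortExact := by
  haveI := isSeparated_projSpace r k
  let I := LefPen.hypIdeal G
  let B : Set (CohB1.ProjSpace r k).Opens := {V | IsAffineOpen V ∧ ∃ i, V ≤ LefPen.chart r k i}
  have hB : Opens.IsBasis B := Opens.isBasis_iff_nbhd.2 fun {U x} hx => by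
    obtain ⟨i, hi⟩ := Opens.mem_iSup.1 ((iSup_chart r k).ge (trivial : x ∈ (⊤ : (CohB1.ProjSpace r k).Opens)))
    obtain ⟨_, ⟨W, hW, rfl⟩, hxW, hWU⟩ :=
      (CohB1.ProjSpace r k).isBasis_affineOpens.exists_subset_of_mem_open (show x ∈ U ⊓ LefPen.chart r k i from ⟨hx, hi⟩) (U ⊓ LefPen.chart r k i).2
    exact ⟨W, ⟨hW, i, fun y hy => (hWU hy).2⟩, hxW, fun y hy => (hWU hy).1⟩
  have hideal : ∀ {V : (CohB1.ProjSpace r k).Opens} (hV : IsAffineOpen V) {i} (hi : V ≤ LefPen.chart r k i),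
      I.ideal ⟨V, hV⟩ = Ideal.span {AModX.resR hi (LefPen.dehom G i)} := fun {V} hV {i} hi => by
    rw [← I.map_ideal (U := ⟨V, hV⟩) (V := achart r k i) hi, hypIdeal_chart, Ideal.map_span, Set.image_singleton]
    rfl
  have hzero : mulForm G ≫ ClSub.toSubscheme I = 0 := by
    refine Scheme.Modules.hom_ext _ _ fun U => ?_
    ext s
    refine AModX.eq_of_locally _ _ fun x hx => ?_
    obtain ⟨V, ⟨hV, i, hi⟩, hxV, hVU⟩ := Opens.isBasis_iff_nbhd.1 hB hx
    refine ⟨V, hVU, hxV, ?_⟩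
    obtain ⟨c, hc⟩ := trivMap_surjective i hi (AModX.res (Twist.twistProjSpace r k (-(d : ℤ))) hVU s)
    show AModX.res _ hVU ((ClSub.toSubscheme I).app U ((mulForm G).app U s)) = AModX.res _ hVU 0
    rw [map_zero, ← AModX.app_res, ← AModX.app_res, ← hc]
    refine (toSubscheme_app_eq_zero_iff I ⟨V, hV⟩ _).2 ?_
    rw [hideal hV hi]
    exact Ideal.mem_span_singleton'.2 ⟨c, (mulForm_trivMap G i hi c).symm⟩
  let ψ : Twist.twistProjSpace r k (-(d : ℤ)) ⟶ ClSub.idealMod I :=
    kernel.lift (ClSub.toSubscheme I) (mulForm G) hzero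
  have hψ : ψ ≫ ClSub.idealModι I = mulForm G := kernel.lift_ι _ _ _
  haveI : Mono (ClSub.idealModι I) := inferInstanceAs (Mono (kernel.ι _))
  have hbij : ∀ V ∈ B, Function.Bijective (ψ.app V) := by
    rintro V ⟨hV, i, hi⟩
    have happ : ∀ s, (ClSub.idealModι I).app V (ψ.app V s) = (mulForm G).app V s := fun s => congr(($hψ).app V s)
    refine ⟨(injective_iff_map_eq_zero _).2 fun s hs => ?_, fun z => ?_⟩
    · obtain ⟨c, rfl⟩ := trivMap_surjective i hi s
      rcases Set.eq_empty_or_nonempty (V : Set (CohB1.ProjSpace r k)) with h0 | hne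
      · exact AModX.eq_of_locally (M := Twist.twistProjSpace r k (-(d : ℤ))) _ _ fun x hx =>
          absurd (show x ∈ (V : Set (CohB1.ProjSpace r k)) from hx) (by rw [h0]; exact Set.notMem_empty x)
      have h1 := happ (trivMap (LefPen.X_mem r k i) (-(d : ℤ)) (nonVan_of_le hi) c)
      rw [hs, map_zero] at h1
      have h2 := (mulForm_trivMap G i hi c).symm.trans h1.symm
      haveI := H23.PnChart.isIntegral_projSpace r k
      haveI : Nonempty V := ⟨⟨_, hne.some_mem⟩⟩
      rw [(mul_eq_zero.1 h2).resolve_right (dehom_ne_zero hG i hi hne), map_zero]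
    · have hz : (show Γ(CohB1.ProjSpace r k, V) from (ClSub.idealModι I).app V z) ∈ (show Ideal Γ(CohB1.ProjSpace r k, V) from I.ideal ⟨V, hV⟩) := by
        refine (toSubscheme_app_eq_zero_iff I ⟨V, hV⟩ _).1 ?_
        exact congr(($(kernel.condition (ClSub.toSubscheme I))).app V z)
      rw [hideal hV hi] at hz
      obtain ⟨c, hc⟩ := Ideal.mem_span_singleton'.1 hz
      refine ⟨trivMap (LefPen.X_mem r k i) (-(d : ℤ)) (nonVan_of_le hi) c, QCoh.app_injective (ClSub.idealModι I) V ?_⟩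
      exact (happ _).trans ((mulForm_trivMap G i hi c).trans hc)
  haveI : IsIso ψ := QCoh.isIso_of_isBasis ψ hB hbij
  refine ⟨hzero, ShortComplex.shortExact_of_iso ?_ (ExtShX.shortExact_toSubscheme I)⟩
  exact (ShortComplex.isoMk (S₁ := ShortComplex.mk (mulForm G) (ClSub.toSubscheme I) hzero)
    (S₂ := ShortComplex.mk (ClSub.idealModι I) (ClSub.toSubscheme I) (kernel.condition _))
    (asIso ψ) (Iso.refl _) (Iso.refl _) (by simpa using hψ) (by simp)).symm

end Groth.Agent.HypCurve
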