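import Groth.Agent.HypCurve.PointEqns
import Groth.Agent.CurveBC.Main
import Groth.Agent.Lib.CurveRR

/-!
# Functions with poles at the origin of a curve of genus one
-/

set_option autoImplicit false
set_option linter.style.haveILetI false
set_option linter.unusedSectionVars false
set_option backward.isDefEq.respectTransparency false
set_option backward.isDefEq.respectTransparency.types false

universe u

open CategoryTheory CategoryTheory.Limits AlgebraicGeometry TopologicalSpace Opposite

noncomputable section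

namespace Groth.Agent.HypCurve

open Groth.Agent Groth.Agent.CurveCohLib Groth.Agent.CurveCohLib.Polar Groth.Agent.InvX
open Groth.Agent.AModX (res resR)

variable {X : Scheme.{u}} [IsIntegral X] {k : Type u} [Field k] [X.Over (Spec (CommRingCat.of k))]

local notation "η" => genericPoint X
local notation "K" => X.functionField

attribute [local instance] stalkModuleK

namespace IsPointEqns

variable {D : Eqns X} {o : X} (P : IsPointEqns k D o)
include P

theorem exists_mem_V {n : ℕ} : ∃ (U : X.Opens) (hoU : o ∈ U) (e : Γ(mod D n, U)), IsFrame e ∧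
    v D hoU e = (D.A o ^ n)⁻¹ := by
  obtain ⟨U, hoU, e, he, hv⟩ := exists_mod_frame D n o
  exact ⟨U, hoU, e, he, hv hoU⟩

theorem not_surjective_incl (n : ℕ) : ¬ IsIso (incl D n) := by
  intro h
  obtain ⟨U, hoU, e, -, hve⟩ := P.exists_mem_V (n := n + 1)
  have hb : Function.Bijective ((incl D n).app U) :=
    ConcreteCategory.bijective_of_isIso ((incl D n).app U)
  obtain ⟨t, ht⟩ := hb.2 e
  have hm := v_mem hoU t
  have h1 : v D hoU t = (D.A o ^ (n + 1))⁻¹ := by
    have := congrArg (v D hoU) ht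
    rwa [v_mul, mul_one, hve] at this
  rw [h1] at hm
  refine P.not_unitR_A ⟨D.inR o, ?_⟩
  convert hm using 1
  have := D.ne o
  rw [pow_succ]
  field_simp

theorem support_cokernel_incl : CohB1.support (cokernel (incl D 0)) ⊆ ({o} : Set X) := by
  intro x hx
  by_contra hxo
  refine hx (subsingleton_of_forall_eq 0 fun m => ?_)
  obtain ⟨U, hxU, hU⟩ := exists_nhd_unit (D := D) (z := x) (by rw [P.A_ne x hxo]; exact unitR_one x)
  obtain ⟨W, hxW, w, rfl⟩ := (cokernel (incl D 0)).presheaf.germ_exist m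
  obtain ⟨V, iV, hxV, t, ht⟩ := QCoh.exists_local_preimage (cokernel.π (incl D 0)) w hxW
  obtain ⟨s, hs⟩ := mul_app_surjective (adm_one (D := D) (Nat.zero_le 1)) one_ne_zero (W := V ⊓ U)
    (fun y hy => ⟨hU y hy.2, unitR_one y⟩) (AModX.res (mod D 1) inf_le_left t)
  have hzero : (cokernel (incl D 0)).presheaf.map (homOfLE ((inf_le_left : V ⊓ U ≤ V).trans iV)).op w = 0 := by
    have h1 : AModX.res (cokernel (incl D 0)) (inf_le_left : V ⊓ U ≤ V) (AModX.res (cokernel (incl D 0)) iV w) = 0 := by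
      rw [show AModX.res (cokernel (incl D 0)) iV w = (cokernel.π (incl D 0)).app V t from ht.symm, ← AModX.app_res, ← hs]
      exact QCoh.cokernel_π_app_app _
    rwa [AModX.res_res] at h1
  rw [← (cokernel (incl D 0)).presheaf.germ_res_apply (homOfLE ((inf_le_left : V ⊓ U ≤ V).trans iV)) x ⟨hxV, hxU⟩ w,
    hzero, map_zero]

theorem finrank_stalk_cokernel :
    Module.finrank k ((cokernel (incl D 0)).presheaf.stalk o) ≤ 1 := by
  obtain ⟨U, hoU, e, -, hve⟩ := P.exists_mem_V (n := 1)
  rw [pow_one] at hve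
  let C := cokernel (incl D 0)
  let g : C.presheaf.stalk o := C.presheaf.germ U o hoU ((cokernel.π (incl D 0)).app U e)
  refine finrank_le_one g fun m => ?_
  obtain ⟨W, hoW, w, rfl⟩ := C.presheaf.germ_exist m
  obtain ⟨V, iV, hoV, t, ht⟩ := QCoh.exists_local_preimage (cokernel.π (incl D 0)) w hoW
  obtain ⟨q, hq⟩ : InR o (D.A o ^ 1 * v D hoV t) := v_mem hoV t
  obtain ⟨a, ha⟩ := P.res q
  refine ⟨a, ?_⟩
  have hreg : InR o (v D hoV t - cK k a * (D.A o)⁻¹) := by
    have := P.div_A ha
    rw [map_sub, hq, algebraMap_stalkMap] at this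
    convert this using 1
    have := D.ne o
    field_simp
  obtain ⟨W', hoW', r', hr'⟩ := exists_gη_of_inR hreg
  let Y : X.Opens := V ⊓ U ⊓ W'
  have hoY : o ∈ Y := ⟨⟨hoV, hoU⟩, hoW'⟩
  obtain ⟨s, hs⟩ := exists_v (D := D) (n := 0) (W := Y) hoY (c := v D hoV t - cK k a * (D.A o)⁻¹) fun z hz => by
    rw [pow_zero, one_mul, ← hr']
    have e1 : gη hoW' r' = gη hz.2 r' := by
      rw [← gη_res (inf_le_right : Y ≤ W') hoY hoW' r', ← gη_res (inf_le_right : Y ≤ W') hz hz.2 r']
      rfl
    rw [e1]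
    exact inR_gη hz.2 r'
  let cst : Γ(X, Y) := resR (le_top : Y ≤ ⊤) (Coh.toGlobal (X ↘ Spec (CommRingCat.of k)) a)
  have hY1 : Y ≤ V := inf_le_left.trans inf_le_left
  have hY2 : Y ≤ U := inf_le_left.trans inf_le_right
  have hdec : AModX.res (mod D 1) hY1 t = (incl D 0).app Y s + cst • AModX.res (mod D 1) hY2 e := by
    refine ext_v fun {y} hy => ?_
    rw [v_add, v_mul, mul_one, v_smul, hs hy, v_res hY2 hy hoU, hve, v_res hY1 hy hoV]
    have e2 : gη hy cst = cK k a := gη_res (W := ⊤) le_top hy (y := η) trivial _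
    rw [e2]
    ring
  have h1 : C.presheaf.germ W o hoW w = C.presheaf.germ Y o hoY ((cokernel.π (incl D 0)).app Y (AModX.res (mod D 1) hY1 t)) := by
    rw [AModX.app_res, ht]
    show _ = C.presheaf.germ Y o hoY (C.presheaf.map _ (C.presheaf.map _ w))
    rw [C.presheaf.germ_res_apply, C.presheaf.germ_res_apply]
  have h0 : (cokernel.π (incl D 0)).app Y ((incl D 0).app Y s) = 0 := QCoh.cokernel_π_app_app _
  have h2 : (cokernel.π (incl D 0)).app Y (AModX.res (mod D 1) hY1 t) =
      cst • AModX.res C hY2 ((cokernel.π (incl D 0)).app U e) := by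
    refine (congrArg _ hdec).trans ((map_add _ _ _).trans ?_)
    refine (congrArg₂ (· + ·) h0 ((Scheme.Modules.Hom.app_smul _ _ _).trans (congrArg (cst • ·) (AModX.app_res _ _ _)))).trans ?_
    exact zero_add _
  rw [h1, h2, QCoh.germ_smul']
  show Curv2.stalkMap k X o a • g = _
  refine congrArg₂ (· • ·) ?_ (C.presheaf.germ_res_apply (homOfLE hY2) o hoY _).symm
  exact (X.presheaf.germ_res_apply (homOfLE (le_top : Y ≤ ⊤)) o hoY _).symm

variable [IsProper (X ↘ Spec (CommRingCat.of k))]

theorem euler_succ (hdim : topologicalKrullDim X = 1) (n : ℕ) :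
    Curv2.euler k X (mod D n) + 1 ≤ Curv2.euler k X (mod D (n + 1)) := by
  haveI := CurveCohLib.isNoetherian_of_proper (k := k) (X := X)
  haveI : Mono (incl D n) := mono_mul _ one_ne_zero
  obtain ⟨hle, hiff⟩ := euler_le_of_mono (k := k) (incl D n) (isCoh_mod D n) (isCoh_mod D (n + 1))
    (closed_support_cokernel_mul hdim _ one_ne_zero)
  rcases hle.lt_or_eq with h | h
  · omega
  · exact absurd (hiff.1 h) (P.not_surjective_incl n)

theorem euler_one_le (hdim : topologicalKrullDim X = 1) :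
    Curv2.euler k X (mod D 1) - Curv2.euler k X (mod D 0) ≤ 1 := by
  haveI := CurveCohLib.isNoetherian_of_proper (k := k) (X := X)
  haveI : Mono (incl D 0) := mono_mul _ one_ne_zero
  rw [← euler_cokernel (k := k) (incl D 0) (isCoh_mod D 0) (isCoh_mod D 1)]
  have hC : Coh.IsCoh (cokernel (incl D 0)) := QCoh.isCoh_cokernel (isCoh_mod D 0).1 (isCoh_mod D 1) _
  rw [(euler_eq_sum_stalks (k := k) hC (closed_support_cokernel_mul hdim _ one_ne_zero) {o}
    (by rw [Finset.coe_singleton]; exact P.support_cokernel_incl)).1, Finset.sum_singleton]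
  exact_mod_cast P.finrank_stalk_cokernel

variable (hdim : topologicalKrullDim X = 1)
  (h00 : Module.finrank k (Coh.HH X (Coh.structureModule X) 0) = 1)
  (hg : Curv2.genus k X = 1)

include hdim h00 hg

theorem euler_zero : Curv2.euler k X (mod D 0) = 0 := by
  obtain ⟨e⟩ := nonempty_iso_zero D
  rw [euler_congr (k := k) e, CurveRR.euler_eq_h0_sub_h1 k hdim.le (QCoh.isQCoh_structureModule (X := X)), h00,
    show Module.finrank k (Coh.HH X (Coh.structureModule X) 1) = 1 from hg]
  simp

theorem le_finrank (n : ℕ) :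
    letI := algK k (X := X); (n : ℤ) ≤ Module.finrank k (sections k D n) := by
  letI := algK k (X := X)
  have he : (n : ℤ) ≤ Curv2.euler k X (mod D n) := by
    induction n with
    | zero => rw [P.euler_zero hdim h00 hg]; rfl
    | succ n ih => have := P.euler_succ hdim n; push_cast; omega
  rw [CurveRR.euler_eq_h0_sub_h1 k hdim.le (isCoh_mod D n).1] at he
  rw [← (sectionsEquiv k D n).finrank_eq]
  omega

theorem finrank_zero_one :
    letI := algK k (X := X);
      Module.finrank k (sections k D 0) = 1 ∧ Module.finrank k (sections k D 1) ≤ 1 := by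
  letI := algK k (X := X)
  obtain ⟨e⟩ := nonempty_iso_zero D
  have h0 : Module.finrank k (Coh.HH X (mod D 0) 0) = 1 := by rw [(hhEquiv (k := k) e 0).finrank_eq, h00]
  refine ⟨by rw [← (sectionsEquiv k D 0).finrank_eq, h0], ?_⟩
  rw [← (sectionsEquiv k D 1).finrank_eq]
  by_contra hlt
  obtain ⟨hle, hkey⟩ := h0_le_and_genus_zero (D := D) k hdim h0
  have := P.euler_one_le hdim
  haveI := hkey (by omega) (by omega)
  have h1 : Module.finrank k (Coh.HH X (mod D 0) 1) = 1 := by rw [(hhEquiv (k := k) e 1).finrank_eq]; exact hg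
  rw [Module.finrank_zero_of_subsingleton (R := k)] at h1
  omega

omit hdim h00 hg in
theorem finite_sections (n : ℕ) : letI := algK k (X := X); Module.Finite k (sections k D n) := by
  letI := algK k (X := X)
  haveI := CurveCohLib.isNoetherian_of_proper (k := k) (X := X)
  haveI := finite_HH (k := k) (isCoh_mod D n) 0
  exact Module.Finite.equiv (sectionsEquiv k D n)

omit hdim h00 hg in
theorem finrank_succ_le (n : ℕ) :
    letI := algK k (X := X); Module.finrank k (sections k D (n + 1)) ≤ Module.finrank k (sections k D n) + 1 := by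
  letI := algK k (X := X)
  haveI := fun n => P.finite_sections (n := n)
  by_cases hex : ∃ m ∈ sections k D (n + 1), Exact' D o (n + 1) m
  · obtain ⟨m, hm, hme⟩ := hex
    have hle : sections k D (n + 1) ≤ sections k D n ⊔ Submodule.span k {m} := fun c hc => by
      obtain ⟨t, ht⟩ := P.exists_lead hc hm hme
      have h2 : t • m ∈ Submodule.span k ({m} : Set K) := Submodule.smul_mem _ t (Submodule.mem_span_singleton_self m)
      have := Submodule.add_mem_sup ht h2
      rwa [show (c - cK k t * m) + t • m = c from sub_add_cancel c _] at this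
    have h1 := Submodule.finrank_mono hle
    have h2 := Submodule.finrank_add_le_finrank_add_finrank (sections k D n) (Submodule.span k ({m} : Set K))
    have h3 : Module.finrank k (Submodule.span k ({m} : Set K)) = 1 := finrank_span_singleton hme.1
    omega
  · have hle : sections k D (n + 1) ≤ sections k D n := fun c hc =>
      (P.exact_or_mem hc).resolve_left fun h => hex ⟨c, hc, h⟩
    have h1 := Submodule.finrank_mono hle
    omega

theorem exists_exact (n : ℕ) : ∃ c ∈ sections k D (n + 2), Exact' D o (n + 2) c := by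
  letI := algK k (X := X)
  haveI := fun n => P.finite_sections (n := n)
  have hle : ∀ j, Module.finrank k (sections k D (j + 1)) ≤ j + 1 := fun j => by
    induction j with
    | zero => exact (P.finrank_zero_one hdim h00 hg).2
    | succ j ih => have := P.finrank_succ_le (n := j + 1); omega
  by_contra! hne
  have h1 : sections k D (n + 2) ≤ sections k D (n + 1) := fun c hc =>
    (P.exact_or_mem hc).resolve_left (hne c hc)
  have h2 := Submodule.finrank_mono h1
  have h3 := P.le_finrank hdim h00 hg (n + 2)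
  have := hle n
  omega

/-- The monomials of bounded pole order. -/
theorem le_span {x y : K} (hx : x ∈ sections k D 2) (hxe : Exact' D o 2 x) (hy : y ∈ sections k D 3)
    (hye : Exact' D o 3 y) (n : ℕ) :
    letI := algK k (X := X); sections k D n ≤
      Submodule.span k {c : K | ∃ a b : ℕ, a ≤ 2 ∧ 2 * a + 3 * b ≤ n ∧ c = x ^ a * y ^ b} := by
  letI := algK k (X := X)
  haveI := fun n => P.finite_sections (n := n)
  obtain ⟨hf0, hf1⟩ := P.finrank_zero_one hdim h00 hg
  have h0 : sections k D 0 ≤ Submodule.span k {c : K | ∃ a b : ℕ, a ≤ 2 ∧ 2 * a + 3 * b ≤ 0 ∧ c = x ^ a * y ^ b} := by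
    intro c hc
    have h1 : (1 : K) ∈ sections k D 0 := fun z => by rw [pow_zero, one_mul]; exact inR_one z
    obtain ⟨t, ht⟩ := (finrank_eq_one_iff_of_nonzero' (⟨1, h1⟩ : sections k D 0)
      fun h => one_ne_zero (congrArg Subtype.val h)).1 hf0 ⟨c, hc⟩
    rw [show c = t • (1 : K) from (congrArg Subtype.val ht).symm]
    exact Submodule.smul_mem _ _ (Submodule.subset_span ⟨0, 0, by omega, by omega, by simp⟩)
  have hmono : ∀ {i j : ℕ}, i ≤ j → Submodule.span k {c : K | ∃ a b : ℕ, a ≤ 2 ∧ 2 * a + 3 * b ≤ i ∧ c = x ^ a * y ^ b} ≤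
      Submodule.span k {c : K | ∃ a b : ℕ, a ≤ 2 ∧ 2 * a + 3 * b ≤ j ∧ c = x ^ a * y ^ b} :=
    fun hij => Submodule.span_mono fun c ⟨a, b, ha, hab, hc⟩ => ⟨a, b, ha, hab.trans hij, hc⟩
  induction n with
  | zero => exact h0
  | succ n ih =>
    rcases Nat.eq_zero_or_pos n with rfl | hn
    · have : sections k D 0 = sections k D 1 := Submodule.eq_of_le_of_finrank_le (P.sections_mono zero_le_one) (by omega)
      exact this ▸ h0.trans (hmono zero_le_one)
    · obtain ⟨a, b, ha, hab⟩ : ∃ a b : ℕ, a ≤ 2 ∧ 2 * a + 3 * b = n + 1 := by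
        rcases (show (n + 1) % 3 = 0 ∨ (n + 1) % 3 = 1 ∨ (n + 1) % 3 = 2 by omega) with h | h | h
        · exact ⟨0, (n + 1) / 3, by omega, by omega⟩
        · exact ⟨2, (n + 1) / 3 - 1, le_rfl, by omega⟩
        · exact ⟨1, (n + 1) / 3, by omega, by omega⟩
      have hme : Exact' D o (n + 1) (x ^ a * y ^ b) := by
        have := P.exact_mul (P.exact_pow hxe a) (P.exact_pow hye b)
        rwa [show a * 2 + b * 3 = n + 1 by omega] at this
      have hm : x ^ a * y ^ b ∈ sections k D (n + 1) := fun z => by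
        rw [← hab, pow_add, pow_mul, pow_mul,
          show (D.A z ^ 2) ^ a * (D.A z ^ 3) ^ b * (x ^ a * y ^ b) = (D.A z ^ 2 * x) ^ a * (D.A z ^ 3 * y) ^ b by ring]
        exact ((hx z).pow a).mul ((hy z).pow b)
      intro c hc
      obtain ⟨t, ht⟩ := P.exists_lead hc hm hme
      rw [show c = (c - cK k t * (x ^ a * y ^ b)) + t • (x ^ a * y ^ b) from (sub_add_cancel c _).symm]
      exact Submodule.add_mem _ (hmono n.le_succ (ih ht))
        (Submodule.smul_mem _ _ (Submodule.subset_span ⟨a, b, ha, hab.le, rfl⟩))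

/-- The Weierstrass equation. -/
theorem exists_weierstrass : ∃ (x y : K) (a₁ a₂ a₃ a₄ a₆ : k),
    x ∈ sections k D 2 ∧ Exact' D o 2 x ∧ y ∈ sections k D 3 ∧ Exact' D o 3 y ∧
    y ^ 2 + cK k a₁ * x * y + cK k a₃ * y =
      x ^ 3 + cK k a₂ * x ^ 2 + cK k a₄ * x + cK k a₆ := by
  letI := algK k (X := X)
  obtain ⟨x₀, hx₀, hxe₀⟩ := P.exists_exact hdim h00 hg 0
  obtain ⟨y₀, hy₀, hye₀⟩ := P.exists_exact hdim h00 hg 1
  have hY2 : y₀ ^ 2 ∈ sections k D (5 + 1) := fun z => by
    rw [show D.A z ^ (5 + 1) * y₀ ^ 2 = (D.A z ^ (1 + 2) * y₀) ^ 2 by ring]; exact (hy₀ z).pow 2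
  have hX3 : x₀ ^ 3 ∈ sections k D (5 + 1) := fun z => by
    rw [show D.A z ^ (5 + 1) * x₀ ^ 3 = (D.A z ^ (0 + 2) * x₀) ^ 3 by ring]; exact (hx₀ z).pow 3
  have hX3e : Exact' D o (5 + 1) (x₀ ^ 3) := P.exact_pow hxe₀ 3
  have hY2e : Exact' D o (5 + 1) (y₀ ^ 2) := P.exact_pow hye₀ 2
  obtain ⟨c, hc⟩ := P.exists_lead hY2 hX3 hX3e
  have hc0 : c ≠ 0 := fun h => P.not_mem_of_exact hY2e (by simpa [h] using hc)
  let x := cK k c * x₀
  let y := cK k c * y₀
  have hx : x ∈ sections k D 2 := Submodule.smul_mem _ c hx₀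
  have hy : y ∈ sections k D 3 := Submodule.smul_mem _ c hy₀
  have hxe : Exact' D o 2 x := P.exact_cK_mul hxe₀ hc0
  have hye : Exact' D o 3 y := P.exact_cK_mul hye₀ hc0
  have h5 : y ^ 2 - x ^ 3 ∈ sections k D 5 := by
    have := Submodule.smul_mem (sections k D 5) (c ^ 2) hc
    convert this using 1
    show (cK k c * y₀) ^ 2 - (cK k c * x₀) ^ 3 = cK k (c ^ 2) * (y₀ ^ 2 - cK k c * x₀ ^ 3)
    rw [map_pow]
    ring
  have hsub : ({d : K | ∃ a b : ℕ, a ≤ 2 ∧ 2 * a + 3 * b ≤ 5 ∧ d = x ^ a * y ^ b}) ⊆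
      ↑(Submodule.span k ({1, x, y, x ^ 2, x * y} : Set K)) := by
    rintro d ⟨a, b, ha, hab, rfl⟩
    refine Submodule.subset_span ?_
    have hb : b ≤ 1 := by omega
    interval_cases a <;> interval_cases b <;> first | omega | simp
  have h6 := Submodule.span_le.2 hsub (P.le_span hdim h00 hg hx hxe hy hye 5 h5)
  simp only [Submodule.mem_span_insert, Submodule.mem_span_singleton] at h6
  obtain ⟨d₀, _, ⟨d₁, _, ⟨d₂, _, ⟨d₃, _, ⟨d₄, rfl⟩, rfl⟩, rfl⟩, rfl⟩, hd⟩ := h6
  refine ⟨x, y, -d₄, d₃, -d₂, d₁, d₀, hx, hxe, hy, hye, ?_⟩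
  rw [map_neg, map_neg]
  have hd' : y ^ 2 - x ^ 3 = cK k d₀ * 1 + (cK k d₁ * x + (cK k d₂ * y + (cK k d₃ * x ^ 2 + cK k d₄ * (x * y)))) := hd
  linear_combination hd'

end IsPointEqns

end Groth.Agent.HypCurve
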