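import Groth.Agent.HypCurve.CoordMap
import Groth.Agent.HypCurve.WeierFun
import Groth.Agent.S3572
import Mathlib.AlgebraicGeometry.Morphisms.Finite

/-!
# The closed immersion of an elliptic curve as a Weierstrass cubic
-/

set_option autoImplicit false
set_option linter.style.haveILetI false
set_option linter.unusedSectionVars false
set_option backward.isDefEq.respectTransparency false
set_option backward.isDefEq.respectTransparency.types false
set_option synthInstance.maxHeartbeats 100000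

universe u

open CategoryTheory CategoryTheory.Limits AlgebraicGeometry TopologicalSpace Opposite

noncomputable section

namespace Groth.Agent.HypCurve

open Groth.Agent Groth.Agent.InvX Groth.Agent.H23 Groth.Agent.CurveCohLib Groth.Agent.CurveCohLib.Polar

variable {k : Type u} [Field k] {X : Scheme.{u}} [IsIntegral X] [X.Over (Spec (CommRingCat.of k))]
  [IsProper (X ↘ Spec (CommRingCat.of k))]

local notation "η" => genericPoint X
local notation "K" => X.functionField

/-- Where a section given by a function generates. -/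
theorem mem_locus_iff_unitR {D : Eqns X} {n : ℕ} {c : K} (hc : c ≠ 0) (s : Γ(mod D n, ⊤))
    (hs : ∀ {y : X} (hy : y ∈ (⊤ : X.Opens)), v D hy s = c) (z : X) :
    z ∈ TrivBasic.locus s ↔ UnitR z (D.A z ^ n * c) := by
  obtain ⟨U, hzU, e, he, hv⟩ := exists_mod_frame D n z
  obtain ⟨g, hg⟩ := he.exists_coord le_rfl (AModX.res (mod D n) (le_top : U ≤ ⊤) s)
  rw [AModX.res_self] at hg
  have hgη : gη hzU g = D.A z ^ n * c := by
    have h1 := congrArg (v D hzU) hg
    rw [v_smul, v_res (y := z) le_top hzU trivial, hs, hv hzU] at h1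
    rw [h1]
    field_simp [D.ne z]
  have : z ∈ TrivBasic.locus s ↔ z ∈ X.basicOpen g := by
    rw [← TrivBasic.locus_eq_basicOpen he hg]
    exact ⟨fun h => ⟨h, hzU⟩, fun h => h.1⟩
  rw [this, X.mem_basicOpen _ z hzU]
  haveI : Nonempty U := ⟨⟨z, hzU⟩⟩
  have e1 : algebraMap (X.presheaf.stalk z) K (X.presheaf.germ U z hzU g) = D.A z ^ n * c :=
    (X.algebraMap_germ_eq_germToFunctionField hzU g).trans hgη
  refine ⟨fun h => e1 ▸ unitR_of_isUnit h, fun h => isUnit_of_unitR ?_ (e1 ▸ h)⟩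
  rw [e1]
  exact mul_ne_zero (pow_ne_zero _ (D.ne z)) hc

variable {D : Eqns X} {o : X} (P : IsPointEqns k D o) (hoc : IsClosed ({o} : Set X))
  (hdim : topologicalKrullDim X = 1) [Smooth (X ↘ Spec (CommRingCat.of k))]

include P hoc hdim

/-- Functions regular on the open where `y` is a unit. -/
theorem exists_pow_mul_mem {y : K} (hy : y ∈ sections k D 3) (hye : Exact' D o 3 y) {c : K}
    (hc : ∀ z, UnitR z (D.A z ^ 3 * y) → InR z c) : ∃ m : ℕ, y ^ m * c ∈ sections k D (3 * m) := by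
  classical
  haveI := CurveCohLib.isNoetherian_of_proper (k := k) (X := X)
  obtain ⟨s, hs⟩ := exists_v (D := D) (n := 3) (W := ⊤) (x := η) trivial (c := y) fun z _ => hy z
  let U := TrivBasic.locus s
  have hU : ∀ z, z ∈ U ↔ UnitR z (D.A z ^ 3 * y) := mem_locus_iff_unitR hye.1 s hs
  have hηU : η ∈ U := eta_mem ((hU o).2 hye.2)
  have hcl : ∀ z, z ∉ U → IsClosed ({z} : Set X) := fun z hz => by
    by_contra hne
    exact hz (CurveCohLib.eq_genericPoint_of_not_isClosed hdim hne ▸ hηU)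
  have hm : ∀ z, z ∉ U → ∃ m : ℕ, InR z (y ^ m * c) := fun z hz => by
    have hzo : z ≠ o := fun h => hz ((hU z).2 (h ▸ hye.2))
    obtain ⟨a, ha⟩ := hy z
    rw [P.A_ne z hzo, one_pow, one_mul] at ha
    have hau : ¬ IsUnit a := fun h => hz ((hU z).2 (by
      rw [P.A_ne z hzo, one_pow, one_mul, ← ha]; exact unitR_of_isUnit h))
    haveI : IsDiscreteValuationRing (X.presheaf.stalk z) :=
      CurveEmbed.isDVR_of_normal k hdim (hcl z hz) (CurveEmbed.isIntegrallyClosed_of_smooth k hdim (hcl z hz) (by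
        rw [(Scheme.Hom.smoothLocus_eq_top_iff (f := X ↘ Spec (CommRingCat.of k))).2 inferInstance]; trivial))
    obtain ⟨m, hm⟩ := exists_inR_pow_mul hau c
    exact ⟨m, ha ▸ hm⟩
  choose M hM using hm
  have hfin : (((U : Set X))ᶜ).Finite := CurveCohLib.finite_of_closedPoints U.isOpen.isClosed_compl hcl
  refine ⟨hfin.toFinset.attach.sup fun z => M z.1 (hfin.mem_toFinset.1 z.2), fun z => ?_⟩
  by_cases hzo : z = o
  · subst hzo
    rw [pow_mul, show (D.A z ^ 3) ^ _ * (y ^ _ * c) = (D.A z ^ 3 * y) ^ _ * c by rw [mul_pow, mul_assoc]]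
    exact (hye.2.1.pow _).mul (hc z hye.2)
  · rw [P.A_ne z hzo, one_pow, one_mul]
    have hyz : InR z y := by have := hy z; rwa [P.A_ne z hzo, one_pow, one_mul] at this
    by_cases hz : z ∈ U
    · exact (hyz.pow _).mul (hc z ((hU z).1 hz))
    · obtain ⟨d, hd⟩ := Nat.exists_eq_add_of_le
        (Finset.le_sup (f := fun z : hfin.toFinset => M z.1 (hfin.mem_toFinset.1 z.2))
          (Finset.mem_attach _ ⟨z, hfin.mem_toFinset.2 hz⟩))
      rw [hd, pow_add, mul_comm (y ^ _) (y ^ d), mul_assoc]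
      exact (hyz.pow d).mul (hM z hz)

/-- The sections `x, y, 1` embed the curve as a Weierstrass cubic. -/
theorem exists_closedImmersion {x y : K} (hx : x ∈ sections k D 2) (hxe : Exact' D o 2 x)
    (hy : y ∈ sections k D 3) (hye : Exact' D o 3 y) {a₁ a₂ a₃ a₄ a₆ : k}
    (hrel : MvPolynomial.eval₂Hom (cK k) ![x, y, 1] (wPoly a₁ a₂ a₃ a₄ a₆) = 0)
    (hspan : ∀ n, letI := algK k (X := X); sections k D n ≤
      Submodule.span k {c : K | ∃ a b : ℕ, a ≤ 2 ∧ 2 * a + 3 * b ≤ n ∧ c = x ^ a * y ^ b})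
    (W : LefPen.Form 2 k 3) (hW : W.1 = wPoly a₁ a₂ a₃ a₄ a₆) :
    ∃ r : X ⟶ CohB1.ProjSpace 2 k, r ≫ CohB1.ProjSpace.toSpec 2 k = X ↘ Spec (CommRingCat.of k) ∧
      IsClosedImmersion r ∧ r.ker = LefPen.hypIdeal W := by
  classical
  letI := algK k (X := X)
  haveI := CurveCohLib.isNoetherian_of_proper (k := k) (X := X)
  let f : Fin (2 + 1) → K := ![x, y, 1]
  have hf0 : ∀ i, f i ≠ 0 := fun i => by
    fin_cases i
    · exact hxe.1
    · exact hye.1
    · exact one_ne_zero
  have hf : ∀ i z, InR z (D.A z ^ 3 * f i) := fun i => by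
    fin_cases i
    · exact P.sections_mono (show 2 ≤ 3 by norm_num) hx
    · exact hy
    · exact fun z => ((D.inR z).pow 3).mul (inR_one z)
  have hs' := fun i => exists_v (D := D) (n := 3) (W := ⊤) (x := η) trivial (c := f i) fun z _ => hf i z
  choose s hs using hs'
  have hloc : ∀ i z, z ∈ TrivBasic.locus (s i) ↔ UnitR z (D.A z ^ 3 * f i) := fun i =>
    mem_locus_iff_unitR (hf0 i) (s i) (hs i)
  have hl2 : ∀ z, z ∈ TrivBasic.locus (s 2) ↔ z ≠ o := fun z => by
    rw [hloc]
    constructor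
    · rintro h rfl
      refine P.not_unitR_A ⟨D.inR z, ?_⟩
      have h2 : InR z ((D.A z ^ 3 * (1 : K))⁻¹) := h.2
      have := ((D.inR z).pow 2).mul h2
      convert this using 1
      have := D.ne z
      field_simp
    · intro h
      show UnitR z (D.A z ^ 3 * (1 : K))
      rw [P.A_ne z h, one_pow, one_mul]
      exact unitR_one z
  have ho1 : o ∈ TrivBasic.locus (s 1) := (hloc 1 o).2 hye.2
  have hcov : ∀ z, ∃ i, z ∈ TrivBasic.locus (s i) := fun z => by
    by_cases h : z = o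
    · exact ⟨1, h ▸ ho1⟩
    · exact ⟨2, (hl2 z).2 h⟩
  have hM := isInvertible_mod D 3
  obtain ⟨r, hr, τ, hτ⟩ := S3572.result 2 (X ↘ Spec (CommRingCat.of k)) (mod D 3) hM s
    (AVAmple.generatedBy_of_locus _ hcov)
  have hpre : ∀ i, r ⁻¹ᵁ LefPen.chart 2 k i = TrivBasic.locus (s i) := fun i =>
    AmpleEmbed.preimage_chart r τ i (hτ i)
  have hη : ∀ i, η ∈ r ⁻¹ᵁ LefPen.chart 2 k i := fun i => by
    rw [hpre]
    obtain ⟨z, hz⟩ := (TopologicalSpace.Opens.ne_bot_iff_nonempty _).1
      (TrivBasic.locus_ne_bot hM (s := s i) fun h => hf0 i (by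
        have := hs i (y := η) trivial
        rw [h] at this
        rw [← this]
        show val _ ((sub D 3).ι.app ⊤ 0) = 0
        rw [map_zero, map_zero]))
    exact eta_mem hz
  have hv : ∀ i j (b : Γ(X, r ⁻¹ᵁ LefPen.chart 2 k i)),
      AModX.res (mod D 3) (le_top : r ⁻¹ᵁ LefPen.chart 2 k i ≤ ⊤) (s j) =
        b • AModX.res (mod D 3) le_top (s i) → gη (hη i) b = f j * (f i)⁻¹ := fun i j b hb => by
    have h1 := congrArg (v D (hη i)) hb
    rw [v_smul, v_res (y := η) le_top (hη i) trivial, v_res (y := η) le_top (hη i) trivial, hs, hs] at h1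
    rw [h1, mul_assoc, mul_inv_cancel₀ (hf0 i), mul_one]
  let φ := fun i => chartFun r i (hη i)
  have hφ : ∀ i {m : ℕ} (F : LefPen.Form 2 k m),
      φ i (LefPen.dehom F i) * f i ^ m = MvPolynomial.eval₂Hom (cK k) f F.1 := fun i m F => by
    show chartFun r i (hη i) _ * _ = _
    rw [chartFun_dehom_form hr τ hτ i (hη i) (fun j => f j * (f i)⁻¹) (hv i) F, eval₂Hom_mul_pow F.2,
      mul_assoc, ← mul_pow, inv_mul_cancel₀ (hf0 i), one_pow, mul_one]
  -- the chart ideals
  have hker : ∀ i, RingHom.ker (φ i) = Ideal.span {LefPen.dehom W i} := fun i => by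
    refine le_antisymm (fun g hg => ?_) ?_
    · obtain ⟨m, F, rfl⟩ := exists_form_dehom i g
      have h0 : MvPolynomial.eval₂Hom (cK k) f F.1 = 0 := by
        rw [← hφ i F, RingHom.mem_ker.1 hg, zero_mul]
      obtain ⟨q, hq⟩ := Ideal.mem_span_singleton'.1 (mem_span_of_eval_eq_zero P hx hxe hy hye hrel F.2 h0)
      rw [Ideal.mem_span_singleton', dehom_eq, dehom_eq, hW, ← hq, map_mul, map_mul]
      exact ⟨_, rfl⟩
    · rw [Ideal.span_le, Set.singleton_subset_iff]
      show φ i (LefPen.dehom W i) = 0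
      have := hφ i W
      rw [hW] at this
      exact (mul_eq_zero.1 (this.trans hrel)).resolve_right (pow_ne_zero _ (hf0 i))
  haveI : IsProper r := by
    haveI := PnCoh.Chow.isProper_toSpec 2 k
    haveI : IsProper (r ≫ CohB1.ProjSpace.toSpec 2 k) := hr ▸ inferInstance
    exact IsProper.of_comp r (CohB1.ProjSpace.toSpec 2 k)
  have hkerI : r.ker = LefPen.hypIdeal W := eq_hypIdeal W r.ker fun i => by
    rw [← hker i]
    show r.ker.ideal _ = _
    rw [Scheme.Hom.ker_apply]
    ext g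
    show (r.app (LefPen.chart 2 k i)).hom g = 0 ↔ gη (hη i) ((r.app (LefPen.chart 2 k i)).hom g) = 0
    exact (map_eq_zero_iff _ (gη_injective (hη i))).symm
  refine ⟨r, hr, ?_, hkerI⟩
  -- finiteness
  haveI : JacobsonSpace X := LocallyOfFiniteType.jacobsonSpace (X ↘ Spec (CommRingCat.of k))
  haveI : LocallyQuasiFinite r := AVAmple.locallyQuasiFinite_of_closed r fun q hq => by
    have hclq : IsClosed (r ⁻¹' {q}) := hq.preimage r.continuous
    refine CurveCohLib.finite_of_closedPoints hclq fun z hz => ?_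
    by_contra hne
    obtain rfl := CurveCohLib.eq_genericPoint_of_not_isClosed hdim hne
    have ho : r o = q := ((genericPoint_spec X).specializes (Set.mem_univ o)).mem_closed hclq hz
    have h2 : o ∈ r ⁻¹ᵁ LefPen.chart 2 k 2 := by
      show r o ∈ LefPen.chart 2 k 2
      rw [ho, ← (Set.mem_singleton_iff.1 hz : r η = q)]
      exact hη 2
    rw [hpre] at h2
    exact (hl2 o).1 h2 rfl
  haveI : IsFinite r := IsFinite.of_isProper_of_locallyQuasiFinite r
  -- surjectivity on the two charts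
  have hsurj : ∀ i : Fin (2 + 1), i = 1 ∨ i = 2 → Function.Surjective (r.app (LefPen.chart 2 k i)) := by
    intro i hi b
    let S : Subalgebra k K :=
      { (φ i).range with
        algebraMap_mem' := fun c => ⟨_, chartFun_base hr i (hη i) c⟩ }
    have hcoord : ∀ j, f j * (f i)⁻¹ ∈ S := fun j =>
      ⟨LefPen.dehom (⟨MvPolynomial.X j, LefPen.X_mem 2 k j⟩ : LefPen.Form 2 k 1) i, by
        have := hφ i (⟨MvPolynomial.X j, LefPen.X_mem 2 k j⟩ : LefPen.Form 2 k 1)
        rw [pow_one, MvPolynomial.eval₂Hom_X'] at this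
        rw [← this, mul_assoc, mul_inv_cancel₀ (hf0 i), mul_one]⟩
    suffices h : gη (hη i) b ∈ S by
      obtain ⟨g, hg⟩ := h
      exact ⟨g, gη_injective (hη i) hg⟩
    rcases hi with rfl | rfl
    · obtain ⟨m, hm⟩ := exists_pow_mul_mem P hoc hdim hy hye (c := gη (hη 1) b) fun z hz => by
        have hz' : z ∈ r ⁻¹ᵁ LefPen.chart 2 k 1 := by rw [hpre]; exact (hloc 1 z).2 hz
        exact inR_gη hz' b
      have hle : Submodule.span k {c : K | ∃ a b : ℕ, a ≤ 2 ∧ 2 * a + 3 * b ≤ 3 * m ∧ c = x ^ a * y ^ b} ≤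
          (Subalgebra.toSubmodule S).comap (LinearMap.mulRight k ((y ^ m)⁻¹)) := by
        rw [Submodule.span_le]
        rintro c ⟨a, b', ha, hab, rfl⟩
        show x ^ a * y ^ b' * (y ^ m)⁻¹ ∈ S
        have hle : a + b' ≤ m := by omega
        obtain ⟨d, rfl⟩ := Nat.exists_eq_add_of_le hle
        have e : x ^ a * y ^ b' * (y ^ (a + b' + d))⁻¹ = (f 0 * (f 1)⁻¹) ^ a * (f 2 * (f 1)⁻¹) ^ d := by
          show _ = (x * y⁻¹) ^ a * (1 * y⁻¹) ^ d
          rw [one_mul, mul_pow, inv_pow, inv_pow, pow_add, pow_add]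
          field_simp [hye.1]
        rw [e]
        exact mul_mem (pow_mem (hcoord 0) a) (pow_mem (hcoord 2) d)
      have := hle (hspan _ hm)
      change y ^ m * gη (hη 1) b * (y ^ m)⁻¹ ∈ S at this
      rwa [mul_comm (y ^ m), mul_assoc, mul_inv_cancel₀ (pow_ne_zero m hye.1), mul_one] at this
    · obtain ⟨m, hm⟩ := P.exists_inR_pow (gη (hη 2) b)
      have hmem : gη (hη 2) b ∈ sections k D m := fun z => by
        by_cases hz : z = o
        · exact hz ▸ hm
        · have hz' : z ∈ r ⁻¹ᵁ LefPen.chart 2 k 2 := by rw [hpre]; exact (hl2 z).2 hz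
          exact ((D.inR z).pow m).mul (inR_gη hz' b)
      refine (Submodule.span_le.2 ?_ : _ ≤ Subalgebra.toSubmodule S) (hspan _ hmem)
      rintro c ⟨a, b', -, -, rfl⟩
      have e0 : x = f 0 * (f 2)⁻¹ := by show x = x * (1 : K)⁻¹; rw [inv_one, mul_one]
      have e1 : y = f 1 * (f 2)⁻¹ := by show y = y * (1 : K)⁻¹; rw [inv_one, mul_one]
      show x ^ a * y ^ b' ∈ S
      rw [e0, e1]
      exact mul_mem (pow_mem (hcoord 0) a) (pow_mem (hcoord 1) b')
  -- assembling
  let R : (CohB1.ProjSpace 2 k).Opens := ⟨(Set.range r)ᶜ, (r.isClosedMap.isClosed_range).isOpen_compl⟩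
  let V : Option (Fin 2) → (CohB1.ProjSpace 2 k).Opens := fun t => t.elim R fun i => LefPen.chart 2 k i.succ
  have hVtop : ⨆ t, V t = ⊤ := by
    refine top_le_iff.1 fun q _ => TopologicalSpace.Opens.mem_iSup.2 ?_
    by_cases hq : q ∈ Set.range r
    · obtain ⟨z, rfl⟩ := hq
      by_cases hz : z = o
      · refine ⟨some 0, ?_⟩
        show z ∈ r ⁻¹ᵁ LefPen.chart 2 k 1
        rw [hpre]; exact hz ▸ ho1
      · refine ⟨some 1, ?_⟩
        show z ∈ r ⁻¹ᵁ LefPen.chart 2 k 2
        rw [hpre]; exact (hl2 z).2 hz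
    · exact ⟨none, hq⟩
  refine IsZariskiLocalAtTarget.of_iSup_eq_top (P := @IsClosedImmersion) V hVtop fun t => ?_
  have key : ∀ U : (CohB1.ProjSpace 2 k).Opens, IsAffineOpen U → Function.Surjective (r.app U) →
      IsClosedImmersion (r ∣_ U) := fun U hU hsU => by
    haveI : IsAffine (U : Scheme) := hU
    haveI : IsAffine (r ⁻¹ᵁ U : Scheme) := hU.preimage r
    refine IsClosedImmersion.of_surjective_of_isAffine _ ?_
    intro z
    obtain ⟨g, hg⟩ := hsU ((r ⁻¹ᵁ U).topIso.hom z)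
    refine ⟨U.topIso.inv g, (ConcreteCategory.bijective_of_isIso (r ⁻¹ᵁ U).topIso.hom).1 ?_⟩
    rw [← hg, morphismRestrict_appTop]
    simp only [← CommRingCat.comp_apply]
    congr 2
    simp [Scheme.Opens.topIso, ← Functor.map_comp]
    rw [r.naturality_assoc, ← Functor.map_comp]
    conv_rhs => rw [← Category.comp_id (r.app U)]
    refine congrArg _ (Eq.trans ?_ (X.presheaf.map_id (op (r ⁻¹ᵁ U))))
    exact congrArg X.presheaf.map (Subsingleton.elim _ _)
  rcases t with _ | i
  · haveI : IsEmpty ↥((r ⁻¹ᵁ V none : X.Opens) : Scheme) :=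
      ⟨fun z => z.2 ⟨z.1, rfl⟩⟩
    infer_instance
  · fin_cases i
    · exact key _ (isAffineOpen_chart 2 k 1) (hsurj 1 (Or.inl rfl))
    · exact key _ (isAffineOpen_chart 2 k 2) (hsurj 2 (Or.inr rfl))

end Groth.Agent.HypCurve
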